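import Groth.Agent.H23.C1Cycle
import Mathlib.Algebra.MvPolynomial.Equiv

/-!
Coordinate charts of a projective bundle: over an affine open `U` of the base, sections `s_j` of `O(1)` whose
loci `W_j` are affine spaces over `U` with coordinates the ratios `s_i / s_j`.
-/

set_option autoImplicit false
set_option backward.isDefEq.respectTransparency false
set_option backward.isDefEq.respectTransparency.types false

universe u

open CategoryTheory AlgebraicGeometry TopologicalSpace Opposite MvPolynomial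

noncomputable section

namespace Groth.Agent.H23.ProjBd

open Groth.Agent Groth.Agent.AModX RatSec

section Affine

variable {X : Scheme.{u}} {U : X.Opens} (hU : IsAffineOpen U)

theorem mem_basicOpen_iff {z : X} (hz : z ∈ U) (f : Γ(X, U)) :
    z ∈ X.basicOpen f ↔ f ∉ (hU.primeIdealOf ⟨z, hz⟩).asIdeal := by
  have h : hU.fromSpec (hU.primeIdealOf ⟨z, hz⟩) = z := hU.fromSpec_primeIdealOf ⟨z, hz⟩
  conv_lhs => rw [← h]
  show hU.primeIdealOf ⟨z, hz⟩ ∈ hU.fromSpec ⁻¹ᵁ X.basicOpen f ↔ _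
  rw [hU.fromSpec_preimage_basicOpen]
  rfl

theorem evaluation_eq_zero_iff {z : X} (hz : z ∈ U) (f : Γ(X, U)) :
    X.evaluation U z hz f = 0 ↔ f ∈ (hU.primeIdealOf ⟨z, hz⟩).asIdeal := by
  rw [X.evaluation_eq_zero_iff_notMem_basicOpen, mem_basicOpen_iff hU hz, not_not]

include hU in
theorem exists_point_of_prime (q : PrimeSpectrum Γ(X, U)) :
    ∃ (z : X) (hz : z ∈ U), hU.primeIdealOf ⟨z, hz⟩ = q := by
  have hz : hU.fromSpec q ∈ U := by
    have : hU.fromSpec q ∈ Set.range hU.fromSpec := ⟨q, rfl⟩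
    rwa [hU.range_fromSpec] at this
  exact ⟨_, hz, hU.fromSpec.isOpenEmbedding.injective (hU.fromSpec_primeIdealOf ⟨_, hz⟩)⟩

include hU in
theorem specializes_iff_prime {z w : X} (hz : z ∈ U) (hw : w ∈ U) :
    z ⤳ w ↔ (hU.primeIdealOf ⟨z, hz⟩).asIdeal ≤ (hU.primeIdealOf ⟨w, hw⟩).asIdeal := by
  refine ⟨fun h f hf => ?_, fun h => specializes_iff_forall_open.2 fun V hVo hwV => ?_⟩
  · by_contra hn
    exact (mem_basicOpen_iff hU hz f).1 (h.mem_open (X.basicOpen f).2 ((mem_basicOpen_iff hU hw f).2 hn)) hf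
  · obtain ⟨f, hfV, hwf⟩ := hU.exists_basicOpen_le (V := ⟨V, hVo⟩) ⟨w, hwV⟩ hw
    exact hfV ((mem_basicOpen_iff hU hz f).2 fun hf => (mem_basicOpen_iff hU hw f).1 hwf (h hf))

end Affine

variable {X P : Scheme.{u}}

/-- Coordinates over an affine open. -/
structure Coords (p : P ⟶ X) (O1 : P.Modules) (n : ℕ) (U : X.Opens) where
  isAffine : IsAffineOpen U
  s : Fin (n + 1) → Γ(O1, p ⁻¹ᵁ U)
  W : Fin (n + 1) → P.Opens
  le : ∀ j, W j ≤ p ⁻¹ᵁ U
  frame : ∀ j, InvX.IsFrame (res O1 (le j) (s j))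
  cover : ∀ z ∈ p ⁻¹ᵁ U, ∃ j, z ∈ W j
  affine : ∀ j, IsAffineOpen (W j)
  ψ : ∀ j, MvPolynomial (Fin n) Γ(X, U) →+* Γ(P, W j)
  bij : ∀ j, Function.Bijective (ψ j)
  ψ_C : ∀ j a, ψ j (C a) = p.appLE U (W j) (le j) a
  ψ_X : ∀ j i, ψ j (MvPolynomial.X i) • res O1 (le j) (s j) = res O1 (le j) (s (j.succAbove i))
  basicOpen_le : ∀ j i, P.basicOpen (ψ j (MvPolynomial.X i)) ≤ W (j.succAbove i)

namespace Coords

variable {p : P ⟶ X} {O1 : P.Modules} {n : ℕ} {U : X.Opens} (c : Coords p O1 n U)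

/-- The value of a polynomial at a point of a chart. -/
def ev (j : Fin (n + 1)) (z : P) (hz : z ∈ c.W j) : MvPolynomial (Fin n) Γ(X, U) →+* P.residueField z :=
  (P.evaluation (c.W j) z hz).hom.comp (c.ψ j)

/-- The prime of a point of a chart. -/
def pr (j : Fin (n + 1)) (z : P) (hz : z ∈ c.W j) : Ideal (MvPolynomial (Fin n) Γ(X, U)) :=
  RingHom.ker (c.ev j z hz)

instance isPrime_pr (j : Fin (n + 1)) (z : P) (hz : z ∈ c.W j) : (c.pr j z hz).IsPrime :=
  RingHom.ker_isPrime _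

theorem pr_eq_comap (j : Fin (n + 1)) (z : P) (hz : z ∈ c.W j) :
    c.pr j z hz = ((c.affine j).primeIdealOf ⟨z, hz⟩).asIdeal.comap (c.ψ j) := by
  ext f
  exact evaluation_eq_zero_iff (c.affine j) hz _

theorem ev_C (j : Fin (n + 1)) (z : P) (hz : z ∈ c.W j) (a : Γ(X, U)) :
    c.ev j z hz (C a) = p.residueFieldMap z (X.evaluation U (p z) (c.le j hz) a) := by
  rw [Scheme.evaluation_naturality_apply]
  show P.evaluation (c.W j) z hz (c.ψ j (C a)) = _
  rw [c.ψ_C]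
  exact congrArg (P.residue z) (P.presheaf.germ_res_apply (homOfLE (c.le j)) z hz (p.app U a))

theorem C_mem_pr_iff (j : Fin (n + 1)) (z : P) (hz : z ∈ c.W j) (a : Γ(X, U)) :
    C a ∈ c.pr j z hz ↔ a ∈ (c.isAffine.primeIdealOf ⟨p z, c.le j hz⟩).asIdeal := by
  rw [← evaluation_eq_zero_iff c.isAffine]
  show c.ev j z hz (C a) = 0 ↔ _
  rw [ev_C, map_eq_zero_iff _ (p.residueFieldMap z).hom.injective]

theorem exists_point (j : Fin (n + 1)) (Q : Ideal (MvPolynomial (Fin n) Γ(X, U))) [hQ : Q.IsPrime] :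
    ∃ (z : P) (hz : z ∈ c.W j), c.pr j z hz = Q := by
  let e := RingEquiv.ofBijective (c.ψ j) (c.bij j)
  obtain ⟨z, hz, h⟩ := exists_point_of_prime (c.affine j) ⟨Q.comap e.symm.toRingHom, inferInstance⟩
  refine ⟨z, hz, ?_⟩
  rw [pr_eq_comap, h]
  ext f
  show e.symm (c.ψ j f) ∈ Q ↔ f ∈ Q
  rw [show c.ψ j f = e f from rfl, RingEquiv.symm_apply_apply]

theorem specializes_iff (j : Fin (n + 1)) {z w : P} (hz : z ∈ c.W j) (hw : w ∈ c.W j) :
    z ⤳ w ↔ c.pr j z hz ≤ c.pr j w hw := by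
  rw [specializes_iff_prime (c.affine j) hz hw, pr_eq_comap, pr_eq_comap]
  refine ⟨fun h => Ideal.comap_mono h, fun h f hf => ?_⟩
  obtain ⟨g, rfl⟩ := (c.bij j).2 f
  exact h hf

theorem eq_of_pr_eq (j : Fin (n + 1)) {z w : P} (hz : z ∈ c.W j) (hw : w ∈ c.W j)
    (h : c.pr j z hz = c.pr j w hw) : z = w :=
  (((c.specializes_iff j hz hw).2 h.le).antisymm ((c.specializes_iff j hw hz).2 h.ge)).eq

theorem apply_eq_iff (j : Fin (n + 1)) {z : P} (hz : z ∈ c.W j) {ξ : X} (hξ : ξ ∈ U) :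
    p z = ξ ↔ (c.pr j z hz).comap C = (c.isAffine.primeIdealOf ⟨ξ, hξ⟩).asIdeal := by
  have h : (c.pr j z hz).comap C = (c.isAffine.primeIdealOf ⟨p z, c.le j hz⟩).asIdeal :=
    Ideal.ext fun a => c.C_mem_pr_iff j z hz a
  rw [h]
  refine ⟨fun e => by subst e; rfl, fun e => ?_⟩
  exact (((specializes_iff_prime c.isAffine (c.le j hz) hξ).2 e.le).antisymm
    ((specializes_iff_prime c.isAffine hξ (c.le j hz)).2 e.ge)).eq

/-- The germ of a coordinate section. -/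
def sg (l : Fin (n + 1)) (z : P) (hz : p z ∈ U) : O1.presheaf.stalk z :=
  O1.presheaf.germ (p ⁻¹ᵁ U) z hz (c.s l)

/-- A coordinate section as a rational section. -/
def cs (l : Fin (n + 1)) (z : P) (hz : p z ∈ U) : Cyc.secFibre O1 z := cls O1 z (c.sg l z hz)

theorem isGen_sg (j : Fin (n + 1)) (z : P) (hz : z ∈ c.W j) : IsGen (c.sg j z (c.le j hz)) := by
  have := isGen_germ (c.frame j) z hz
  rwa [show O1.presheaf.germ (c.W j) z hz (res O1 (c.le j) (c.s j)) = c.sg j z (c.le j hz) from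
    O1.presheaf.germ_res_apply (homOfLE (c.le j)) z hz _] at this

theorem sg_succAbove (j : Fin (n + 1)) (i : Fin n) (z : P) (hz : z ∈ c.W j) :
    c.sg (j.succAbove i) z (c.le j hz) =
      P.presheaf.germ (c.W j) z hz (c.ψ j (MvPolynomial.X i)) • c.sg j z (c.le j hz) := by
  have h := congrArg (O1.presheaf.germ (c.W j) z hz).hom (c.ψ_X j i)
  erw [QCoh.germ_smul' O1 hz] at h
  exact (O1.presheaf.germ_res_apply (homOfLE (c.le j)) z hz _).symm.trans (h.symm.trans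
    (congrArg (P.presheaf.germ (c.W j) z hz (c.ψ j (MvPolynomial.X i)) • ·)
      (O1.presheaf.germ_res_apply (homOfLE (c.le j)) z hz _)))

theorem cs_succAbove (j : Fin (n + 1)) (i : Fin n) (z : P) (hz : z ∈ c.W j) :
    c.cs (j.succAbove i) z (c.le j hz) =
      P.presheaf.germ (c.W j) z hz (c.ψ j (MvPolynomial.X i)) • c.cs j z (c.le j hz) := by
  rw [cs, sg_succAbove]
  rfl

theorem cs_self_ne_zero (j : Fin (n + 1)) (z : P) (hz : z ∈ c.W j) : c.cs j z (c.le j hz) ≠ 0 := by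
  have h := (residue_ne_zero (c.isGen_sg j z hz) (φ := 1)).1 (by rw [map_one]; exact one_ne_zero)
  rwa [one_smul] at h

theorem cs_succAbove_ne_zero_iff (j : Fin (n + 1)) (i : Fin n) (z : P) (hz : z ∈ c.W j) :
    c.cs (j.succAbove i) z (c.le j hz) ≠ 0 ↔ MvPolynomial.X i ∉ c.pr j z hz := by
  rw [cs_succAbove]
  exact (residue_ne_zero (c.isGen_sg j z hz)).symm

theorem mem_W_iff (l : Fin (n + 1)) (z : P) (hz : p z ∈ U) : z ∈ c.W l ↔ c.cs l z hz ≠ 0 := by
  refine ⟨fun h => c.cs_self_ne_zero l z h, fun h => ?_⟩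
  obtain ⟨j, hj⟩ := c.cover z hz
  rcases eq_or_ne l j with rfl | hne
  · exact hj
  obtain ⟨i, rfl⟩ := Fin.exists_succAbove_eq hne
  refine c.basicOpen_le j i ?_
  rw [← Scheme.evaluation_ne_zero_iff_mem_basicOpen P z hj]
  exact (c.cs_succAbove_ne_zero_iff j i z hj).1 h

theorem X_mem_pr_iff (j : Fin (n + 1)) (i : Fin n) (z : P) (hz : z ∈ c.W j) :
    MvPolynomial.X i ∈ c.pr j z hz ↔ c.cs (j.succAbove i) z (c.le j hz) = 0 := by
  have := c.cs_succAbove_ne_zero_iff j i z hz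
  exact not_iff_not.1 this.symm

theorem exists_ev_div (j : Fin (n + 1)) (z : P) (hz : z ∈ c.W j) (a : P.residueField z) :
    ∃ f g, c.ev j z hz g ≠ 0 ∧ a = c.ev j z hz f / c.ev j z hz g := by
  obtain ⟨f, g, hg, rfl⟩ := CycLib.exists_eval_div (c.affine j) hz a
  obtain ⟨f, rfl⟩ := (c.bij j).2 f
  obtain ⟨g, rfl⟩ := (c.bij j).2 g
  exact ⟨f, g, hg, rfl⟩

end Coords

/-- A morphism with coordinates near every point of the base. -/
structure HasCoords (p : P ⟶ X) (O1 : P.Modules) (n : ℕ) : Prop where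
  invertible : PicF.IsInvertible O1
  exists_coords : ∀ x : X, ∃ U : X.Opens, x ∈ U ∧ Nonempty (Coords p O1 n U)

end Groth.Agent.H23.ProjBd

end
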