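import Groth.Agent.H23.GrassFlag
import Groth.Prelude.Def_KRR
import Groth.Agent.H28.PBExist

/-! Base change and uniqueness of projective bundles. -/

set_option autoImplicit false
set_option backward.isDefEq.respectTransparency false
set_option backward.isDefEq.respectTransparency.types false

universe u

open CategoryTheory CategoryTheory.Limits AlgebraicGeometry

noncomputable section

namespace Groth.Agent.H23.ProjBd

open Grass Groth.Agent.H28.PBExist

variable {X X' P P' : Scheme.{u}} {f : X' ⟶ X} {π : P ⟶ X} {π' : P' ⟶ X'} {f' : P' ⟶ P}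
  {E : X.Modules} {O1 : P.Modules}

instance isIso_quotBC_id {T G : Scheme.{u}} {π₀ : G ⟶ X} {b : T ⟶ G} {g : T ⟶ X} (hg : b ≫ π₀ = g) :
    IsIso (quotBC hg (𝟙 ((Scheme.Modules.pullback π₀).obj E))) := by
  unfold quotBC
  rw [CategoryTheory.Functor.map_id]
  infer_instance

/-- The pulled back universal quotient. -/
def bcQuot (hsq : IsPullback f' π' π f) (q : (Scheme.Modules.pullback π).obj E ⟶ O1) :
    (Scheme.Modules.pullback π').obj ((Scheme.Modules.pullback f).obj E) ⟶ (Scheme.Modules.pullback f').obj O1 :=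
  inv (quotBC hsq.w.symm (𝟙 ((Scheme.Modules.pullback f).obj E))) ≫ quotBC (rfl : f' ≫ π = f' ≫ π) q

theorem sol_bc (hsq : IsPullback f' π' π f) (q : (Scheme.Modules.pullback π).obj E ⟶ O1) {T : Scheme.{u}}
    {g : T ⟶ X'} {L : T.Modules} (s : (Scheme.Modules.pullback g).obj ((Scheme.Modules.pullback f).obj E) ⟶ L)
    (h : T ⟶ P') (hg : h ≫ π' = g) :
    Sol (bcQuot hsq q) g s h ↔
      Sol q (g ≫ f) (quotBC (rfl : g ≫ f = g ≫ f) (𝟙 ((Scheme.Modules.pullback f).obj E)) ≫ s) (h ≫ f') := by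
  have hg₁ : (h ≫ f') ≫ π = g ≫ f := by rw [Category.assoc, hsq.w, ← Category.assoc, hg]
  have hbπ : h ≫ f' ≫ π = g ≫ f := by rw [← Category.assoc, hg₁]
  have k1 := H23.GrassFlag.quotBC_quotBC (π := f) (π' := f' ≫ π) (a := π') (b := h) (g := g) (g' := g ≫ f)
    hsq.w.symm hg rfl hbπ (𝟙 ((Scheme.Modules.pullback f).obj E)) (bcQuot hsq q)
  rw [show quotBC hsq.w.symm (𝟙 ((Scheme.Modules.pullback f).obj E)) ≫ bcQuot hsq q =
    quotBC (rfl : f' ≫ π = f' ≫ π) q from IsIso.hom_inv_id_assoc _ _] at k1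
  have k2 := H23.GrassFlag.quotBC_quotBC (π := π) (π' := f' ≫ π) (a := f') (b := h) (g := h ≫ f') (g' := g ≫ f)
    rfl rfl hg₁ hbπ q (𝟙 ((Scheme.Modules.pullback f').obj O1))
  rw [Category.comp_id] at k2
  have k3 := k1.trans k2.symm
  let Q := quotBC (rfl : h ≫ f' = h ≫ f') (𝟙 ((Scheme.Modules.pullback f').obj O1))
  haveI : IsIso Q := isIso_quotBC_id _
  constructor
  · rintro ⟨hg', e, he⟩
    refine ⟨hg₁, asIso Q ≪≫ e, ?_⟩
    rw [Iso.trans_hom, asIso_hom, ← Category.assoc, ← k3, Category.assoc, ← he]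
  · rintro ⟨hg', e, he⟩
    refine ⟨hg, (asIso Q).symm ≪≫ e, ?_⟩
    rw [← cancel_epi (quotBC (rfl : g ≫ f = g ≫ f) (𝟙 ((Scheme.Modules.pullback f).obj E))), ← he,
      Iso.trans_hom, Iso.symm_hom, asIso_inv, ← Category.assoc, k3, Category.assoc, IsIso.hom_inv_id_assoc]

/-- The base change of a projective bundle is a projective bundle. -/
theorem isProjBundle_baseChange (hsq : IsPullback f' π' π f) {q : (Scheme.Modules.pullback π).obj E ⟶ O1}
    (hP : KRR.IsProjBundle π E O1 q) :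
    KRR.IsProjBundle π' ((Scheme.Modules.pullback f).obj E) ((Scheme.Modules.pullback f').obj O1) (bcQuot hsq q) := by
  haveI := hP.epi
  refine ⟨H23.GrassFlag.rank_pullback f' hP.invertible, ?_, fun T g L hL s hs => ?_⟩
  · haveI := H23.GrassFlag.epi_quotBC (rfl : f' ≫ π = f' ≫ π) q
    exact epi_comp _ _
  haveI := hs
  obtain ⟨h₁, hh₁, huniq⟩ := hP.univ T (g ≫ f) L hL
    (quotBC (rfl : g ≫ f = g ≫ f) (𝟙 ((Scheme.Modules.pullback f).obj E)) ≫ s) (epi_comp _ _)
  have hh₁' : Sol q (g ≫ f) (quotBC (rfl : g ≫ f = g ≫ f) (𝟙 ((Scheme.Modules.pullback f).obj E)) ≫ s) h₁ := by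
    obtain ⟨hg, e, he⟩ := hh₁
    exact ⟨hg, e, by simpa [quotBC] using he⟩
  let h := hsq.lift h₁ g hh₁'.choose
  have hg : h ≫ π' = g := hsq.lift_snd _ _ _
  have hS := (sol_bc hsq q s h hg).2 (by rw [show h ≫ f' = h₁ from hsq.lift_fst _ _ _]; exact hh₁')
  refine ⟨h, ?_, fun h' hh' => ?_⟩
  · obtain ⟨hg', e, he⟩ := hS
    exact ⟨hg', e, by simpa [quotBC] using he⟩
  · obtain ⟨hg', e, he⟩ := hh'
    refine hsq.hom_ext ?_ (hg'.trans hg.symm)
    rw [show h ≫ f' = h₁ from hsq.lift_fst _ _ _]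
    refine huniq _ ?_
    obtain ⟨hg'', e', he'⟩ := (sol_bc hsq q s h' hg').1 ⟨hg', e, by simpa [quotBC] using he⟩
    exact ⟨hg'', e', by simpa [quotBC] using he'⟩

theorem exists_sol {E' : X.Modules} {π₁ : P' ⟶ X} {O1' : P'.Modules} {q : (Scheme.Modules.pullback π).obj E ⟶ O1}
    (hP : KRR.IsProjBundle π E O1 q) (e : E ≅ E') {q₁ : (Scheme.Modules.pullback π₁).obj E' ⟶ O1'}
    (hP₁ : KRR.IsProjBundle π₁ E' O1' q₁) : ∃ θ, Sol q π₁ ((Scheme.Modules.pullback π₁).map e.hom ≫ q₁) θ := by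
  haveI := hP₁.epi
  obtain ⟨θ, ⟨hg, i, hi⟩, -⟩ := hP.univ P' π₁ O1' hP₁.invertible
    ((Scheme.Modules.pullback π₁).map e.hom ≫ q₁) (epi_comp _ _)
  exact ⟨θ, hg, i, by simpa [quotBC] using hi⟩

theorem sol_map {E' : X.Modules} (e : E ≅ E') {q' : (Scheme.Modules.pullback π).obj E' ⟶ O1} {T : Scheme.{u}}
    {g : T ⟶ X} {L : T.Modules} {s : (Scheme.Modules.pullback g).obj E' ⟶ L} {h : T ⟶ P} (hs : Sol q' g s h) :
    Sol ((Scheme.Modules.pullback π).map e.hom ≫ q') g ((Scheme.Modules.pullback g).map e.hom ≫ s) h := by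
  obtain ⟨hg, i, hi⟩ := hs
  refine ⟨hg, i, ?_⟩
  rw [← hi, ← Category.assoc]
  congr 1
  subst hg
  have hn := (Scheme.Modules.pullbackComp h π).inv.naturality e.hom
  dsimp at hn
  simp only [quotBC, Scheme.Modules.pullbackCongr, Functor.map_comp]
  simp [reassoc_of% hn]

/-- A projective bundle has no non-trivial automorphism over the base compatible with the quotient. -/
theorem eq_id {q : (Scheme.Modules.pullback π).obj E ⟶ O1} (hP : KRR.IsProjBundle π E O1 q) {h : P ⟶ P}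
    (hs : Sol q π q h) : h = 𝟙 P := by
  haveI := hP.epi
  have h1 : Sol q π (quotBC (Category.id_comp π) q) (𝟙 P ≫ h) := sol_restrict q hs (𝟙 P) (Category.id_comp π)
  rw [Category.id_comp] at h1
  haveI := H23.GrassFlag.epi_quotBC (Category.id_comp π) q
  obtain ⟨hg1, e1, he1⟩ := h1
  refine (hP.univ P π _ (H23.GrassFlag.rank_pullback (𝟙 P) hP.invertible) (quotBC (Category.id_comp π) q)
    inferInstance).unique ⟨hg1, e1, by simpa [quotBC] using he1⟩
    ⟨Category.id_comp π, Iso.refl _, by simp [quotBC]⟩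

/-- Two projective bundles of isomorphic modules are isomorphic. -/
theorem exists_iso_of_projBundle {E' : X.Modules} {π₁ : P' ⟶ X} {O1' : P'.Modules}
    {q : (Scheme.Modules.pullback π).obj E ⟶ O1} (hP : KRR.IsProjBundle π E O1 q)
    {q₁ : (Scheme.Modules.pullback π₁).obj E' ⟶ O1'} (hP₁ : KRR.IsProjBundle π₁ E' O1' q₁) (e : E ≅ E') :
    ∃ θ : P' ≅ P, θ.hom ≫ π = π₁ ∧ Nonempty ((Scheme.Modules.pullback θ.hom).obj O1 ≅ O1') := by
  obtain ⟨θ, hθ⟩ := exists_sol hP e hP₁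
  obtain ⟨φ, hφ⟩ := exists_sol hP₁ e.symm hP
  have h1 : ∀ {A : Scheme.{u}} (g : A ⟶ X) (M : A.Modules) (s : (Scheme.Modules.pullback g).obj E ⟶ M),
      (Scheme.Modules.pullback g).map e.hom ≫ (Scheme.Modules.pullback g).map e.symm.hom ≫ s = s := fun g M s => by
    rw [← Category.assoc, ← Functor.map_comp, Iso.symm_hom, Iso.hom_inv_id, CategoryTheory.Functor.map_id,
      Category.id_comp]
  have h2 : ∀ {A : Scheme.{u}} (g : A ⟶ X) (M : A.Modules) (s : (Scheme.Modules.pullback g).obj E' ⟶ M),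
      (Scheme.Modules.pullback g).map e.symm.hom ≫ (Scheme.Modules.pullback g).map e.hom ≫ s = s := fun g M s => by
    rw [← Category.assoc, ← Functor.map_comp, Iso.symm_hom, Iso.inv_hom_id, CategoryTheory.Functor.map_id,
      Category.id_comp]
  have hcomp : ∀ {A B : Scheme.{u}} {a : A ⟶ X} {b : B ⟶ X} {M : A.Modules} {N : B.Modules} {EA EB : X.Modules}
      (ε : EA ≅ EB) (qA : (Scheme.Modules.pullback a).obj EA ⟶ M) (sA : (Scheme.Modules.pullback a).obj EA ⟶ M)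
      (qB : (Scheme.Modules.pullback b).obj EB ⟶ N) (u : A ⟶ B) (v : B ⟶ A)
      (_ : Sol qA b ((Scheme.Modules.pullback b).map ε.hom ≫ qB) v)
      (_ : Sol ((Scheme.Modules.pullback b).map ε.hom ≫ qB) a sA u), Sol qA a sA (u ≫ v) := by
    intro A B a b M N EA EB ε qA sA qB u v hv hu
    obtain ⟨hua, eu, heu⟩ := hu
    have h3 := sol_comp qA (sol_restrict qA hv u hua) eu
    rwa [heu] at h3
  have hθφ : θ ≫ φ = 𝟙 P' := by
    refine eq_id hP₁ (hcomp e.symm q₁ q₁ q θ φ hφ ?_)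
    have := sol_map e.symm hθ
    rwa [h2] at this
  have hφθ : φ ≫ θ = 𝟙 P := by
    refine eq_id hP (hcomp e q q q₁ φ θ hθ ?_)
    have := sol_map e hφ
    rwa [h1] at this
  exact ⟨⟨θ, φ, hθφ, hφθ⟩, hθ.choose, ⟨hθ.choose_spec.choose⟩⟩

/-- A projective bundle of a pulled back module lives in a cartesian square over the base. -/
theorem exists_square {E' : X'.Modules} {O1' : P'.Modules} {q : (Scheme.Modules.pullback π).obj E ⟶ O1}
    (hP : KRR.IsProjBundle π E O1 q) {q' : (Scheme.Modules.pullback π').obj E' ⟶ O1'}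
    (hP' : KRR.IsProjBundle π' E' O1' q') (e : (Scheme.Modules.pullback f).obj E ≅ E') :
    ∃ h : P' ⟶ P, IsPullback h π' π f ∧ Nonempty ((Scheme.Modules.pullback h).obj O1 ≅ O1') := by
  have hsq := IsPullback.of_hasPullback π f
  obtain ⟨θ, hθ, ⟨i⟩⟩ := exists_iso_of_projBundle (isProjBundle_baseChange hsq hP) hP' e
  refine ⟨θ.hom ≫ pullback.fst π f, ?_, ⟨((Scheme.Modules.pullbackComp θ.hom (pullback.fst π f)).app O1).symm ≪≫ i⟩⟩
  exact IsPullback.of_iso hsq θ.symm (Iso.refl _) (Iso.refl _) (Iso.refl _) (by simp) (by simp [← hθ]) (by simp)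
    (by simp)

end Groth.Agent.H23.ProjBd

end
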