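import Mathlib.RingTheory.GradedAlgebra.HomogeneousLocalization
import Mathlib.RingTheory.MvPolynomial.Homogeneous
import Mathlib.RingTheory.GradedAlgebra.Basic

/-! Degree-zero parts of `R[T_0, …, T_n][1/T_j]`. -/

set_option autoImplicit false

universe u

open MvPolynomial HomogeneousLocalization

noncomputable section

namespace Groth.Agent.H23.ProjBd.ChartRing

variable {B σ : Type u} [CommRing B] [SetLike σ B] [AddSubgroupClass σ B] {𝒜 : ℕ → σ} [GradedRing 𝒜]
  {R : Type u} [CommRing R] {n : ℕ}

/-- A presentation of a graded ring as a polynomial ring in degree-one variables. -/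
structure Pres (𝒜 : ℕ → σ) (R : Type u) [CommRing R] (n : ℕ) where
  base : R →+* B
  base_mem : ∀ r, base r ∈ 𝒜 0
  T : Fin (n + 1) → B
  T_mem : ∀ l, T l ∈ 𝒜 1
  bij : Function.Bijective (eval₂Hom base T)

variable (D : Pres 𝒜 R n)

theorem ev_mem {f : MvPolynomial (Fin (n + 1)) R} {m : ℕ} (hf : f.IsHomogeneous m) :
    eval₂Hom D.base D.T f ∈ 𝒜 m := by
  classical
  rw [f.as_sum, map_sum]
  refine sum_mem fun d hd => ?_
  rw [eval₂Hom_monomial]
  have hm : Finsupp.weight (1 : Fin (n + 1) → ℕ) d = m := hf (mem_support_iff.1 hd)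
  have : (d.prod fun i k => D.T i ^ k) ∈ 𝒜 m := by
    rw [← hm, Finsupp.weight_apply]
    exact SetLike.prod_pow_mem_graded 𝒜 (fun _ => 1) D.T d fun i _ => D.T_mem i
  simpa using SetLike.mul_mem_graded (D.base_mem (coeff d f)) this

theorem exists_homogeneous {a : B} {m : ℕ} (ha : a ∈ 𝒜 m) :
    ∃ f : MvPolynomial (Fin (n + 1)) R, f.IsHomogeneous m ∧ eval₂Hom D.base D.T f = a := by
  classical
  obtain ⟨g, rfl⟩ := D.bij.2 a
  refine ⟨homogeneousComponent m g, homogeneousComponent_isHomogeneous m g, ?_⟩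
  have h1 := DirectSum.decompose_of_mem_same 𝒜 ha
  rw [← sum_homogeneousComponent g, map_sum, DirectSum.decompose_sum, DFinsupp.finsetSum_apply,
    AddSubmonoidClass.coe_finsetSum] at h1
  conv_rhs => rw [← sum_homogeneousComponent g, map_sum]
  refine Eq.trans ?_ h1
  symm
  by_cases hm : m ∈ Finset.range (g.totalDegree + 1)
  · rw [Finset.sum_eq_single_of_mem m hm fun d _ hd =>
      DirectSum.decompose_of_mem_ne 𝒜 (ev_mem D (homogeneousComponent_isHomogeneous d g)) hd]
    exact DirectSum.decompose_of_mem_same 𝒜 (ev_mem D (homogeneousComponent_isHomogeneous m g))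
  · rw [homogeneousComponent_eq_zero m g (by simp only [Finset.mem_range, not_lt] at hm; omega), map_zero]
    exact Finset.sum_eq_zero fun d hd => DirectSum.decompose_of_mem_ne 𝒜
      (ev_mem D (homogeneousComponent_isHomogeneous d g)) fun e => hm (e ▸ hd)

theorem exists_notMem (y : Ideal B) [y.IsPrime] (h : ¬ ∀ m, 0 < m → ∀ a ∈ 𝒜 m, a ∈ y) : ∃ l, D.T l ∉ y := by
  by_contra hn
  push Not at hn
  refine h fun m hm a ha => ?_
  obtain ⟨f, hf, rfl⟩ := exists_homogeneous D ha
  rw [f.as_sum, map_sum]
  refine sum_mem fun d hd => ?_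
  rw [eval₂Hom_monomial]
  obtain ⟨i, hi⟩ : ∃ i, d i ≠ 0 := by
    by_contra hz
    push Not at hz
    have := hf (mem_support_iff.1 hd)
    rw [show d = 0 from Finsupp.ext hz, map_zero] at this
    omega
  refine Ideal.mul_mem_left _ _ ?_
  rw [Finsupp.prod, ← Finset.mul_prod_erase _ _ (Finsupp.mem_support_iff.2 hi)]
  exact Ideal.mul_mem_right _ _ (Ideal.pow_mem_of_mem _ (hn i) _ (Nat.pos_of_ne_zero hi))

variable (j : Fin (n + 1))

/-- The ratio `T_l / T_j`. -/
def coord (l : Fin (n + 1)) : Away 𝒜 (D.T j) :=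
  Away.mk 𝒜 (D.T_mem j) 1 (D.T l) (by simpa using D.T_mem l)

/-- The constants. -/
def const : R →+* Away 𝒜 (D.T j) :=
  (fromZeroRingHom 𝒜 _).comp
    { toFun := fun r => ⟨D.base r, D.base_mem r⟩
      map_one' := Subtype.ext (map_one _)
      map_mul' := fun a b => Subtype.ext (map_mul _ a b)
      map_zero' := Subtype.ext (map_zero _)
      map_add' := fun a b => Subtype.ext (map_add _ a b) }

/-- The chart. -/
def ψ : MvPolynomial (Fin n) R →+* Away 𝒜 (D.T j) :=
  eval₂Hom (const D j) fun i => coord D j (j.succAbove i)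

theorem ψ_C (r : R) : ψ D j (C r) = const D j r := eval₂Hom_C _ _ _

theorem ψ_X (i : Fin n) : ψ D j (MvPolynomial.X i) = coord D j (j.succAbove i) := eval₂Hom_X' _ _ _

theorem val_coord_mul (l : Fin (n + 1)) :
    (coord D j l).val * algebraMap B (Localization.Away (D.T j)) (D.T j) =
      algebraMap B (Localization.Away (D.T j)) (D.T l) := by
  rw [coord, Away.val_mk, Localization.mk_eq_mk']
  have h := IsLocalization.mk'_spec (Localization.Away (D.T j)) (D.T l)
    (⟨D.T j ^ 1, 1, rfl⟩ : Submonoid.powers (D.T j))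
  exact (congrArg (fun t => IsLocalization.mk' (Localization.Away (D.T j)) (D.T l) _ *
    algebraMap B (Localization.Away (D.T j)) t) (pow_one (D.T j)).symm).trans h

/-- Setting `T_j = 1`. -/
def dh : MvPolynomial (Fin (n + 1)) R →+* MvPolynomial (Fin n) R :=
  eval₂Hom C (Fin.insertNth j 1 MvPolynomial.X)

theorem val_ψ_dh {f : MvPolynomial (Fin (n + 1)) R} {m : ℕ} (hf : f.IsHomogeneous m) :
    (ψ D j (dh j f)).val * algebraMap B (Localization.Away (D.T j)) (D.T j) ^ m =
      algebraMap B (Localization.Away (D.T j)) (eval₂Hom D.base D.T f) := by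
  classical
  let L := Localization.Away (D.T j)
  let vh : Away 𝒜 (D.T j) →+* L := algebraMap _ _
  have hcomp : (vh.comp (ψ D j)).comp (dh j) =
      eval₂Hom ((algebraMap B L).comp D.base) (fun l => (coord D j l).val) := by
    refine MvPolynomial.ringHom_ext (fun r => ?_) fun l => ?_
    · simp only [RingHom.comp_apply, dh, eval₂Hom_C, ψ_C]
      show (const D j r).val = _
      simp only [const, RingHom.comp_apply, fromZeroRingHom, RingHom.coe_mk, MonoidHom.coe_mk, OneHom.coe_mk,
        HomogeneousLocalization.val_mk]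
      rfl
    · simp only [RingHom.comp_apply, dh, eval₂Hom_X']
      rcases Fin.eq_self_or_eq_succAbove j l with rfl | ⟨i, rfl⟩
      · rw [Fin.insertNth_apply_same, map_one, map_one]
        show (1 : L) = (coord D l l).val
        rw [coord, Away.val_mk]
        refine Eq.trans (Localization.mk_self (⟨D.T l, 1, pow_one _⟩ : Submonoid.powers (D.T l))).symm ?_
        exact congrArg (Localization.mk (D.T l)) (Subtype.ext (pow_one _).symm)
      · rw [Fin.insertNth_apply_succAbove, ψ_X]
        rfl
  have hv : ∀ l, (coord D j l).val * algebraMap B L (D.T j) = algebraMap B L (D.T l) := val_coord_mul D j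
  show vh (ψ D j (dh j f)) * _ = _
  rw [← RingHom.comp_apply, ← RingHom.comp_apply, hcomp, f.as_sum, map_sum, map_sum, map_sum, Finset.sum_mul]
  refine Finset.sum_congr rfl fun d hd => ?_
  rw [eval₂Hom_monomial, eval₂Hom_monomial, RingHom.comp_apply, map_mul, mul_assoc]
  congr 1
  have hm : Finsupp.weight (1 : Fin (n + 1) → ℕ) d = m := hf (mem_support_iff.1 hd)
  rw [Finsupp.prod, Finsupp.prod, map_prod, ← hm, Finsupp.weight_apply, Finsupp.sum, ← Finset.prod_pow_eq_pow_sum,
    ← Finset.prod_mul_distrib]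
  exact Finset.prod_congr rfl fun l _ => by
    rw [Pi.one_apply, smul_eq_mul, mul_one, ← mul_pow, hv, map_pow]

theorem ψ_surjective : Function.Surjective (ψ D j) := by
  intro z
  obtain ⟨m, a, ha, rfl⟩ := Away.mk_surjective 𝒜 (D.T_mem j) z
  obtain ⟨f, hf, rfl⟩ := exists_homogeneous D (show a ∈ 𝒜 m by simpa using ha)
  refine ⟨dh j f, HomogeneousLocalization.val_injective _ ?_⟩
  have hu : IsUnit (algebraMap B (Localization.Away (D.T j)) (D.T j) ^ m) :=
    (IsLocalization.map_units _ (⟨D.T j, 1, pow_one _⟩ : Submonoid.powers (D.T j))).pow m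
  refine hu.mul_left_injective ((val_ψ_dh D j hf).trans ?_)
  rw [Away.val_mk, Localization.mk_eq_mk', ← map_pow]
  exact (IsLocalization.mk'_spec (Localization.Away (D.T j)) (eval₂Hom D.base D.T f)
    (⟨D.T j ^ m, m, rfl⟩ : Submonoid.powers (D.T j))).symm

theorem ψ_injective : Function.Injective (ψ D j) := by
  let e := RingEquiv.ofBijective (eval₂Hom D.base D.T) D.bij
  let g : B →+* MvPolynomial (Fin n) R := (dh j).comp e.symm.toRingHom
  have hgT : ∀ l, g (D.T l) = Fin.insertNth (α := fun _ => MvPolynomial (Fin n) R) j 1 MvPolynomial.X l := fun l => by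
    have : e.symm (D.T l) = MvPolynomial.X l := e.symm_apply_eq.2 (eval₂Hom_X' D.base D.T l).symm
    show dh j (e.symm (D.T l)) = _
    rw [this, dh, eval₂Hom_X']
  have hu : IsUnit (g (D.T j)) := by rw [hgT, Fin.insertNth_apply_same]; exact isUnit_one
  let L : Localization.Away (D.T j) →+* MvPolynomial (Fin n) R := IsLocalization.Away.lift (D.T j) hu
  let vh : Away 𝒜 (D.T j) →+* Localization.Away (D.T j) := algebraMap _ _
  have h : (L.comp vh).comp (ψ D j) = RingHom.id _ := by
    refine MvPolynomial.ringHom_ext (fun r => ?_) fun i => ?_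
    · show L (ψ D j (C r)).val = C r
      rw [ψ_C]
      simp only [const, RingHom.comp_apply, fromZeroRingHom, RingHom.coe_mk, MonoidHom.coe_mk, OneHom.coe_mk,
        HomogeneousLocalization.val_mk]
      have : e.symm (D.base r) = C r := e.symm_apply_eq.2 (eval₂Hom_C D.base D.T r).symm
      refine Eq.trans ?_ ((congrArg (dh j) this).trans (eval₂Hom_C _ _ _))
      exact IsLocalization.Away.lift_eq (D.T j) hu (D.base r)
    · show L (ψ D j (MvPolynomial.X i)).val = MvPolynomial.X i
      rw [ψ_X]
      have h2 : L ((coord D j (j.succAbove i)).val * algebraMap B _ (D.T j)) =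
          L (algebraMap B _ (D.T (j.succAbove i))) := by
        rw [val_coord_mul]
      rw [map_mul, IsLocalization.Away.lift_eq, IsLocalization.Away.lift_eq, hgT, hgT, Fin.insertNth_apply_same,
        Fin.insertNth_apply_succAbove, mul_one] at h2
      exact h2
  exact fun a b hab => ((RingHom.congr_fun h a).symm.trans (congrArg (L.comp vh) hab)).trans (RingHom.congr_fun h b)

end Groth.Agent.H23.ProjBd.ChartRing

end
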