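import Groth.Agent.H23.ProjBd.Coords
import Groth.Agent.H23.ProjBd.ChartRing
import Groth.Agent.H23.Frame
import Groth.Agent.SymAlgX.Exists
import Groth.Agent.RelTildeX.Invertible
import Mathlib.LinearAlgebra.SymmetricAlgebra.Basis

/-!
Coordinates on `Proj` of the symmetric algebra of a locally free module.
-/

set_option autoImplicit false
set_option backward.isDefEq.respectTransparency false
set_option backward.isDefEq.respectTransparency.types false

universe u

open CategoryTheory AlgebraicGeometry TopologicalSpace Opposite MvPolynomial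
open HomogeneousLocalization (Away)

noncomputable section

namespace Groth.Agent.H23.ProjBd

open Groth.Agent Groth.Agent.AModX Groth.Agent.SymAlgX

variable {X : Scheme.{u}} {E : X.Modules} {𝒮 : RelProj.QCGrAlg X} {j : E ⟶ 𝒮.toModule}

theorem exists_pres (hq : Coh.IsQCoh E) {n : ℕ} (hE : FlatMod.IsFinLocFreeOfRank (n + 1) E)
    (hS : RelProj.IsGrSymAlg E 𝒮 j) (x : X) :
    ∃ (U : X.Opens) (_ : x ∈ U) (hU : IsAffineOpen U) (D : ChartRing.Pres (𝒮.deg U hU) Γ(X, U) n),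
      D.base = (𝒮.str.app (op U)).hom := by
  classical
  obtain ⟨W, hxW, ⟨i⟩⟩ := hE x
  obtain ⟨b₀, hb₀⟩ := Frame.exists_frame i
  obtain ⟨_, ⟨U, hU, rfl⟩, hxU, hUW⟩ := X.isBasis_affineOpens.exists_subset_of_mem_open hxW W.isOpen
  let b : Fin (n + 1) → Γ(E, U) := fun i => E.presheaf.map (homOfLE hUW).op (b₀ i)
  have hb := hb₀.res hUW U le_rfl
  let L : (Fin (n + 1) → Γ(X, U)) →ₗ[Γ(X, U)] Γ(E, U) :=
    ∑ i, (LinearMap.proj (R := Γ(X, U)) i).smulRight (b i)
  have hL : Function.Bijective L := by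
    refine Eq.subst (motive := Function.Bijective) (funext fun c => ?_) hb
    simp only [L, LinearMap.sum_apply, LinearMap.smulRight_apply, LinearMap.proj_apply, Frame.comb]
    exact Finset.sum_congr rfl fun i _ => congrArg (c i • ·) (QCoh.map_id' _ _)
  let B : Module.Basis (Fin (n + 1)) Γ(X, U) Γ(E, U) := Module.Basis.ofEquivFun (LinearEquiv.ofBijective L hL).symm
  have hB : ∀ l, B l = b l := fun l => by
    rw [Module.Basis.coe_ofEquivFun]
    simp [L, Pi.single_apply]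
  let e := SymmetricAlgebra.equivMvPolynomial B
  refine ⟨U, hxU, hU,
    { base := (𝒮.str.app (op U)).hom
      base_mem := fun r => 𝒮.str_mem U hU r
      T := fun l => jv 𝒮.toQCAlg j U (b l)
      T_mem := fun l => hS.2 U hU (b l)
      bij := ?_ }, rfl⟩
  have : eval₂Hom (𝒮.str.app (op U)).hom (fun l => jv 𝒮.toQCAlg j U (b l)) =
      (liftAt 𝒮.toQCAlg j U).comp e.symm.toRingEquiv.toRingHom := by
    refine MvPolynomial.ringHom_ext (fun r => ?_) fun l => ?_
    · rw [eval₂Hom_C]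
      show _ = liftAt 𝒮.toQCAlg j U (e.symm (MvPolynomial.C r))
      rw [show e.symm (MvPolynomial.C r) = algebraMap _ _ r from e.symm.commutes r, liftAt_algebraMap]
    · rw [eval₂Hom_X']
      show _ = liftAt 𝒮.toQCAlg j U (e.symm (MvPolynomial.X l))
      rw [SymmetricAlgebra.equivMvPolynomial_symm_X, liftAt_ι, hB]
  rw [this]
  exact (liftAt_bijective hq 𝒮.toQCAlg hS.1 hU).comp e.symm.bijective

section Chart

variable {P : Scheme.{u}} {p : P ⟶ X}
  {chart : ∀ (U : X.Opens) (hU : IsAffineOpen U), (((p ⁻¹ᵁ U : P.Opens) : Scheme.{u}) ≅ Proj (𝒮.deg U hU))}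
  (hP : RelProj.IsRelProj 𝒮 p chart) {U : X.Opens} (hU : IsAffineOpen U) {n : ℕ}
  (D : ChartRing.Pres (𝒮.deg U hU) Γ(X, U) n) (hD : D.base = (𝒮.str.app (op U)).hom) (l : Fin (n + 1))

local notation "𝐞" => RelProj.emb p chart U hU

/-- The chart opens. -/
def Wd : P.Opens := 𝐞 ''ᵁ Proj.basicOpen (𝒮.deg U hU) (D.T l)

theorem Wd_le : Wd (p := p) (chart := chart) hU D l ≤ p ⁻¹ᵁ U := by
  rw [← RelTildeX.opensRange_emb p chart U hU]
  exact Scheme.Hom.image_le_opensRange _ _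

theorem preimage_Wd : 𝐞 ⁻¹ᵁ Wd (p := p) (chart := chart) hU D l = Proj.basicOpen (𝒮.deg U hU) (D.T l) :=
  (RelProj.emb p chart U hU).preimage_image_eq _

/-- Polynomials as sections over a chart open of `Proj`. -/
def θ : MvPolynomial (Fin n) Γ(X, U) →+* Γ(Proj (𝒮.deg U hU), Proj.basicOpen (𝒮.deg U hU) (D.T l)) :=
  (Proj.awayToSection (𝒮.deg U hU) (D.T l)).hom.comp (ChartRing.ψ D l)

/-- Polynomials as sections over a chart open. -/
def Ψ : MvPolynomial (Fin n) Γ(X, U) →+* Γ(P, Wd (p := p) (chart := chart) hU D l) :=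
  ((RelProj.emb p chart U hU).appIso (Proj.basicOpen (𝒮.deg U hU) (D.T l))).inv.hom.comp (θ hU D l)

theorem Ψ_bijective : Function.Bijective (Ψ (p := p) (chart := chart) hU D l) := by
  have h1 : Function.Bijective (Proj.awayToSection (𝒮.deg U hU) (D.T l)).hom := by
    have : IsIso (Proj.awayToSection (𝒮.deg U hU) (D.T l)) :=
      (Proj.basicOpenIsoAway (𝒮.deg U hU) (D.T l) (D.T_mem l) one_pos).isIso_hom
    exact (ConcreteCategory.isIso_iff_bijective _).1 this
  exact ((ConcreteCategory.isIso_iff_bijective _).1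
    ((RelProj.emb p chart U hU).appIso (Proj.basicOpen (𝒮.deg U hU) (D.T l))).isIso_inv).comp
    (h1.comp ⟨ChartRing.ψ_injective D l, ChartRing.ψ_surjective D l⟩)

theorem appLE_Ψ (g : MvPolynomial (Fin n) Γ(X, U)) :
    (RelProj.emb p chart U hU).appLE (Wd (p := p) (chart := chart) hU D l) (Proj.basicOpen (𝒮.deg U hU) (D.T l))
      (preimage_Wd hU D l).ge (Ψ (p := p) (chart := chart) hU D l g) = θ hU D l g := by
  show (RelProj.emb p chart U hU).appLE _ _ _ (((RelProj.emb p chart U hU).appIso _).inv (θ hU D l g)) = _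
  rw [← CommRingCat.comp_apply]
  erw [Scheme.Hom.appIso_inv_appLE]
  exact ConcreteCategory.congr_hom ((Proj (𝒮.deg U hU)).presheaf.map_id _) (θ hU D l g)

theorem θ_apply (g : MvPolynomial (Fin n) Γ(X, U)) (y : Proj.basicOpen (𝒮.deg U hU) (D.T l)) :
    ((θ hU D l g).1 y).val =
      IsLocalization.map (M := Submonoid.powers (D.T l)) (T := y.1.asHomogeneousIdeal.toIdeal.primeCompl) _
        (RingHom.id _) (Submonoid.powers_le.mpr y.2) (ChartRing.ψ D l g).val :=
  ProjectiveSpectrum.Proj.awayToSection_apply (𝒮.deg U hU) (D.T l) (ChartRing.ψ D l g) y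

theorem θ_X_apply (i : Fin n) (y : Proj.basicOpen (𝒮.deg U hU) (D.T l)) :
    ((θ hU D l (MvPolynomial.X i)).1 y).val = Localization.mk (D.T (l.succAbove i))
      (⟨D.T l, y.2⟩ : y.1.asHomogeneousIdeal.toIdeal.primeCompl) := by
  rw [θ_apply, ChartRing.ψ_X, ChartRing.coord, HomogeneousLocalization.Away.val_mk, Localization.mk_eq_mk',
    Localization.mk_eq_mk', IsLocalization.map_mk']
  exact congrArg _ (Subtype.ext (pow_one (D.T l)))

include hP hD in
theorem Ψ_C (a : Γ(X, U)) :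
    Ψ (p := p) (chart := chart) hU D l (MvPolynomial.C a) =
      p.appLE U (Wd (p := p) (chart := chart) hU D l) (Wd_le (p := p) (chart := chart) hU D l) a := by
  have hbij : Function.Bijective ((RelProj.emb p chart U hU).appLE (Wd (p := p) (chart := chart) hU D l)
      (Proj.basicOpen (𝒮.deg U hU) (D.T l)) (preimage_Wd hU D l).ge).hom := by
    have := ((RelProj.emb p chart U hU).appIso (Proj.basicOpen (𝒮.deg U hU) (D.T l))).isIso_hom
    rw [Scheme.Hom.appIso_hom'] at this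
    exact (ConcreteCategory.isIso_iff_bijective _).1 this
  apply hbij.1
  rw [appLE_Ψ, ← CommRingCat.comp_apply, Scheme.Hom.appLE_comp_appLE]
  let 𝒜 := 𝒮.deg U hU
  let hDa : IsAffineOpen (Proj.basicOpen 𝒜 (D.T l)) :=
    Proj.isAffineOpen_basicOpen 𝒜 (D.T l) (D.T_mem l) one_pos
  let φ : Γ(X, U) ⟶ Γ(Proj 𝒜, Proj.basicOpen 𝒜 (D.T l)) :=
    𝒮.strZero U hU ≫ CommRingCat.ofHom (HomogeneousLocalization.fromZeroRingHom 𝒜 _) ≫
      Proj.awayToSection 𝒜 (D.T l)
  have key : (RelProj.emb p chart U hU ≫ p).appLE U (Proj.basicOpen 𝒜 (D.T l))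
      ((preimage_Wd (p := p) (chart := chart) hU D l).ge.trans
        ((RelProj.emb p chart U hU).preimage_mono (Wd_le (p := p) (chart := chart) hU D l))) = φ := by
    apply Spec.map_injective
    rw [← cancel_mono hU.fromSpec, IsAffineOpen.SpecMap_appLE_fromSpec _ hU hDa]
    have hover : RelProj.emb p chart U hU ≫ p =
        Proj.toSpecZero 𝒜 ≫ Spec.map (𝒮.strZero U hU) ≫ hU.fromSpec := by
      rw [RelProj.emb, Category.assoc, ← hP.chart_over U hU, Iso.inv_hom_id_assoc]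
    rw [hover, IsAffineOpen.fromSpec, Category.assoc, Iso.inv_comp_eq, IsAffineOpen.isoSpec_hom]
    rw [← Category.assoc (Proj.basicOpen 𝒜 (D.T l)).ι]
    have hz : (Proj.basicOpen 𝒜 (D.T l)).ι ≫ Proj.toSpecZero 𝒜 =
        Proj.basicOpenToSpec 𝒜 (D.T l) ≫
          Spec.map (CommRingCat.ofHom (HomogeneousLocalization.fromZeroRingHom 𝒜 _)) := by
      have h := Proj.awayι_toSpecZero 𝒜 (D.T l) (D.T_mem l) one_pos
      rw [Proj.awayι, Category.assoc, Iso.inv_comp_eq, Proj.basicOpenIsoSpec_hom] at h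
      exact h
    rw [hz, Proj.basicOpenToSpec]
    simp only [φ, Spec.map_comp, Category.assoc]
  rw [key]
  refine congrArg (Proj.awayToSection 𝒜 (D.T l)).hom ((ChartRing.ψ_C D l a).trans ?_)
  exact congrArg (HomogeneousLocalization.fromZeroRingHom 𝒜 _) (Subtype.ext (RingHom.congr_fun hD a))

variable {O1 : P.Modules}
  {lam : ∀ (U : X.Opens) (hU : IsAffineOpen U),
    O1 ⟶ (Scheme.Modules.pushforward (RelProj.emb p chart U hU)).obj (GrTwist.twist (𝒮.deg U hU) 1)}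
  (hO1 : RelProj.IsRelTwist 𝒮 p chart 1 O1 lam)

/-- The global section `T_l / 1` read on `p⁻¹U`. -/
def sd : Γ(O1, p ⁻¹ᵁ U) :=
  (Equiv.ofBijective _ (hO1.bijective U hU (p ⁻¹ᵁ U) le_rfl)).symm
    (show Γ(GrTwist.twist (𝒮.deg U hU) 1, 𝐞 ⁻¹ᵁ (p ⁻¹ᵁ U)) from
      GrTwist.resN (𝒜 := 𝒮.deg U hU) 1 (homOfLE le_top : (𝐞 ⁻¹ᵁ (p ⁻¹ᵁ U)) ⟶ ⊤).op
        (GrTwist.globalOf (𝒮.deg U hU) (⟨D.T l, D.T_mem l⟩ : 𝒮.deg U hU 1)))

theorem val_sd {V : P.Opens} (hV : V ≤ p ⁻¹ᵁ U) (y : ↥(𝐞 ⁻¹ᵁ V)) :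
    GrTwist.val (V := 𝐞 ⁻¹ᵁ V) ((lam U hU).app V (res O1 hV (sd hU D l hO1))) y =
      Localization.mk (D.T l) (⟨1, fun h => y.1.isPrime.ne_top ((Ideal.eq_top_iff_one _).mpr h)⟩ :
        y.1.asHomogeneousIdeal.toIdeal.primeCompl) := by
  rw [app_res]
  have h : (lam U hU).app (p ⁻¹ᵁ U) (sd hU D l hO1) =
      (show Γ(GrTwist.twist (𝒮.deg U hU) 1, 𝐞 ⁻¹ᵁ (p ⁻¹ᵁ U)) from
        GrTwist.resN (𝒜 := 𝒮.deg U hU) 1 (homOfLE le_top : (𝐞 ⁻¹ᵁ (p ⁻¹ᵁ U)) ⟶ ⊤).op
          (GrTwist.globalOf (𝒮.deg U hU) (⟨D.T l, D.T_mem l⟩ : 𝒮.deg U hU 1))) :=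
    (Equiv.ofBijective _ (hO1.bijective U hU (p ⁻¹ᵁ U) le_rfl)).apply_symm_apply _
  rw [h]
  rfl

theorem val_smul {V : P.Opens} (r : Γ(P, V)) (m : Γ(O1, V)) (y : ↥(𝐞 ⁻¹ᵁ V)) :
    GrTwist.val (V := 𝐞 ⁻¹ᵁ V) ((lam U hU).app V (r • m)) y =
      (((RelProj.emb p chart U hU).app V r).1 y).val * GrTwist.val (V := 𝐞 ⁻¹ᵁ V) ((lam U hU).app V m) y := by
  rw [Scheme.Modules.Hom.app_smul]
  exact GrTwist.coe_smul_val 1 y.1 _ _

include hO1 in
theorem frame_sd : InvX.IsFrame (res O1 (Wd_le (p := p) (chart := chart) hU D l) (sd hU D l hO1)) := by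
  intro V hV
  have hlam := hO1.bijective U hU V (hV.trans (Wd_le (p := p) (chart := chart) hU D l))
  let φ : GrTwistX.UnitFrac (𝒜 := 𝒮.deg U hU) 1 (𝐞 ⁻¹ᵁ V) :=
    { i := 1, j := 0, num := D.T l, den := 1, num_mem := D.T_mem l, den_mem := SetLike.GradedOne.one_mem
      deg := by simp
      num_ne := fun y => by
        have h : y.1 ∈ 𝐞 ⁻¹ᵁ Wd (p := p) (chart := chart) hU D l := hV y.2
        rwa [preimage_Wd] at h
      den_ne := fun y h => y.1.isPrime.ne_top ((Ideal.eq_top_iff_one _).mpr h) }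
  have happ : Function.Bijective ((RelProj.emb p chart U hU).app V).hom := by
    have := Scheme.Hom.isIso_app (RelProj.emb p chart U hU) V
      (by rw [RelTildeX.opensRange_emb]; exact hV.trans (Wd_le (p := p) (chart := chart) hU D l))
    exact (ConcreteCategory.isIso_iff_bijective _).1 this
  have h : (fun r : Γ(P, V) => (lam U hU).app V (r • res O1 hV (res O1 (Wd_le (p := p) (chart := chart) hU D l) (sd hU D l hO1)))) =
      fun r => GrTwistX.trivMap φ (((RelProj.emb p chart U hU).app V).hom r) := by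
    funext r
    refine Subtype.ext (funext fun y => Subtype.ext ?_)
    refine Eq.trans ?_ (GrTwistX.trivMap_apply φ _ y).symm
    show GrTwist.val (V := 𝐞 ⁻¹ᵁ V) _ y = _
    rw [val_smul, res_res, val_sd]
  refine (Function.Bijective.of_comp_iff' hlam _).1 ?_
  show Function.Bijective (fun r => (lam U hU).app V (r • res O1 hV (res O1 (Wd_le (p := p) (chart := chart) hU D l) (sd hU D l hO1))))
  rw [h]
  exact (GrTwistX.trivMap_bijective φ).comp happ

include hO1 in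
theorem Ψ_X_smul (i : Fin n) :
    Ψ (p := p) (chart := chart) hU D l (MvPolynomial.X i) • res O1 (Wd_le (p := p) (chart := chart) hU D l) (sd hU D l hO1) =
      res O1 (Wd_le (p := p) (chart := chart) hU D l) (sd hU D (l.succAbove i) hO1) := by
  refine (hO1.bijective U hU _ (Wd_le (p := p) (chart := chart) hU D l)).1 (Subtype.ext (funext fun y => Subtype.ext ?_))
  show GrTwist.val (V := 𝐞 ⁻¹ᵁ Wd (p := p) (chart := chart) hU D l) _ y =
    GrTwist.val (V := 𝐞 ⁻¹ᵁ Wd (p := p) (chart := chart) hU D l) _ y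
  rw [val_smul, val_sd, val_sd]
  have hy : y.1 ∈ Proj.basicOpen (𝒮.deg U hU) (D.T l) := preimage_Wd (p := p) (chart := chart) hU D l ▸ y.2
  have h : ((RelProj.emb p chart U hU).app _ (Ψ (p := p) (chart := chart) hU D l (MvPolynomial.X i))).1 y =
      (θ hU D l (MvPolynomial.X i)).1 ⟨y.1, hy⟩ := by
    rw [← appLE_Ψ (p := p) (chart := chart) hU D l]
    rfl
  rw [h, θ_X_apply, Localization.mk_mul, Localization.mk_eq_mk_iff, Localization.r_iff_exists]
  exact ⟨1, by simp [mul_comm]⟩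

theorem basicOpen_Ψ_le (i : Fin n) :
    P.basicOpen (Ψ (p := p) (chart := chart) hU D l (MvPolynomial.X i)) ≤
      Wd (p := p) (chart := chart) hU D (l.succAbove i) := by
  intro z hz
  obtain ⟨y, hy, rfl⟩ := (show z ∈ Wd (p := p) (chart := chart) hU D l from P.basicOpen_le _ hz)
  refine ⟨y, ?_, rfl⟩
  intro hmem
  let W := Wd (p := p) (chart := chart) hU D l
  have hyW : y ∈ 𝐞 ⁻¹ᵁ W := by rw [preimage_Wd]; exact hy
  have h1 : y ∈ (Proj (𝒮.deg U hU)).basicOpen ((RelProj.emb p chart U hU).appLE W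
      (Proj.basicOpen (𝒮.deg U hU) (D.T l)) (preimage_Wd hU D l).ge (Ψ (p := p) (chart := chart) hU D l (MvPolynomial.X i))) := by
    rw [Scheme.basicOpen_appLE]
    exact ⟨hy, hz⟩
  rw [appLE_Ψ, Scheme.mem_basicOpen _ _ y hy] at h1
  have h2 : IsUnit ((θ hU D l (MvPolynomial.X i)).1 ⟨y, hy⟩) := by
    have := h1.map (AlgebraicGeometry.Proj.stalkIso' (𝒮.deg U hU) y).toRingHom
    erw [AlgebraicGeometry.Proj.stalkIso'_germ] at this
    exact this
  have h3 : IsUnit (Localization.mk (D.T (l.succAbove i))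
      (⟨D.T l, hy⟩ : (y : ProjectiveSpectrum (𝒮.deg U hU)).asHomogeneousIdeal.toIdeal.primeCompl)) := by
    rw [← θ_X_apply hU D l i ⟨y, hy⟩]
    exact h2.map (algebraMap _ _)
  rw [Localization.mk_eq_mk', IsLocalization.AtPrime.isUnit_mk'_iff] at h3
  exact h3 hmem

include hP hD in
/-- Coordinates from a presentation. -/
def coordsOfPres : Coords p O1 n U where
  isAffine := hU
  s l := sd hU D l hO1
  W := Wd (p := p) (chart := chart) hU D
  le := Wd_le (p := p) (chart := chart) hU D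
  frame l := frame_sd hU D l hO1
  cover z hz := by
    rw [← RelTildeX.opensRange_emb p chart U hU] at hz
    obtain ⟨y, rfl⟩ := hz
    obtain ⟨l, hl⟩ := ChartRing.exists_notMem D (y : ProjectiveSpectrum (𝒮.deg U hU)).asHomogeneousIdeal.toIdeal
      fun h => (y : ProjectiveSpectrum (𝒮.deg U hU)).not_irrelevant_le
        ((HomogeneousIdeal.irrelevant_le _).2 fun m hm a ha => h m hm a ha)
    exact ⟨l, y, hl, rfl⟩
  affine l := (Proj.isAffineOpen_basicOpen _ (D.T l) (D.T_mem l) one_pos).image_of_isOpenImmersion _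
  ψ := Ψ (p := p) (chart := chart) hU D
  bij := Ψ_bijective hU D
  ψ_C l a := Ψ_C hP hU D hD l a
  ψ_X l i := Ψ_X_smul hU D l hO1 i
  basicOpen_le l i := basicOpen_Ψ_le hU D l i

end Chart

theorem hasCoords_of_relProj {P : Scheme.{u}} {p : P ⟶ X}
    {chart : ∀ (U : X.Opens) (hU : IsAffineOpen U), (((p ⁻¹ᵁ U : P.Opens) : Scheme.{u}) ≅ Proj (𝒮.deg U hU))}
    (hP : RelProj.IsRelProj 𝒮 p chart) (hq : Coh.IsQCoh E) {n : ℕ}
    (hE : FlatMod.IsFinLocFreeOfRank (n + 1) E) (hS : RelProj.IsGrSymAlg E 𝒮 j) {O1 : P.Modules}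
    {lam : ∀ (U : X.Opens) (hU : IsAffineOpen U),
      O1 ⟶ (Scheme.Modules.pushforward (RelProj.emb p chart U hU)).obj (GrTwist.twist (𝒮.deg U hU) 1)}
    (hO1 : RelProj.IsRelTwist 𝒮 p chart 1 O1 lam) (hinv : PicF.IsInvertible O1) : HasCoords p O1 n := by
  refine ⟨hinv, fun x => ?_⟩
  obtain ⟨U, hx, hU, D, hD⟩ := exists_pres hq hE hS x
  exact ⟨U, hx, ⟨coordsOfPres hP hU D hD hO1⟩⟩

end Groth.Agent.H23.ProjBd

end
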