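import Groth.Agent.H28.PBChart
import Groth.Agent.PnCoh.Chow.Proper
import Groth.Agent.H28.KvbModel

/-! A projective bundle is proper. -/

set_option autoImplicit false
set_option backward.isDefEq.respectTransparency false
set_option backward.isDefEq.respectTransparency.types false

universe u

open CategoryTheory CategoryTheory.Limits AlgebraicGeometry TopologicalSpace Opposite

namespace Groth.Agent.H23.ProjBd

open Groth.Agent

theorem isProper_of_projBundle {X P : Scheme.{u}} {p : P ⟶ X} {E : X.Modules} {O1 : P.Modules}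
    {q : (Scheme.Modules.pullback p).obj E ⟶ O1} (hP : KRR.IsProjBundle p E O1 q) {n : ℕ}
    (hE : FlatMod.IsFinLocFreeOfRank (n + 1) E) : IsProper p := by
  choose U b hx hb using H28.KvbModel.frameAt_of_rank hE
  refine IsZariskiLocalAtTarget.of_iSup_eq_top (P := @IsProper) U ?_ fun x => ?_
  · exact top_le_iff.1 fun x _ => Opens.mem_iSup.2 ⟨x, hx x⟩
  · obtain ⟨θ, hθi, hθ, -⟩ := H28.PBChart.exists_chart (U := U x) hP (hb x)
    haveI := hθi
    haveI : IsProper (KRR.pr n (U x : Scheme.{u})) :=
      MorphismProperty.pullback_snd _ _ (PnCoh.Chow.isProper_toSpec n (ULift.{u} ℤ))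
    rw [show p ∣_ U x = inv θ ≫ KRR.pr n (U x : Scheme.{u}) by rw [← hθ, IsIso.inv_hom_id_assoc]]
    infer_instance

end Groth.Agent.H23.ProjBd
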