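import Groth.Agent.H23.ProjBd.Linear
import Groth.Agent.H23.RatEquivPull
import Mathlib.AlgebraicGeometry.Morphisms.Flat
import Mathlib.RingTheory.Flat.Basic

/-!
Pull-back, cap and push-forward as homomorphisms of groups of cycles; projective bundles are flat.
-/

set_option autoImplicit false
set_option backward.isDefEq.respectTransparency false
set_option backward.isDefEq.respectTransparency.types false

universe u

open CategoryTheory AlgebraicGeometry TopologicalSpace Opposite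

noncomputable section

namespace Groth.Agent.H23.ProjBd

open Groth.Agent RatSec FlatShift

variable {X P : Scheme.{u}} {p : P ⟶ X} {O1 : P.Modules} {n : ℕ}

theorem Coords.flat {U : X.Opens} (c : Coords p O1 n U) (j : Fin (n + 1)) : Flat ((c.W j).ι ≫ p) := by
  have h : (p.appLE U (c.W j) (c.le j)).hom.Flat := by
    have e : (p.appLE U (c.W j) (c.le j)).hom = (c.ψ j).comp MvPolynomial.C := RingHom.ext fun a => (c.ψ_C j a).symm
    rw [e]
    refine RingHom.Flat.comp ?_ (RingHom.Flat.of_bijective (c.bij j))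
    exact (RingHom.flat_algebraMap_iff (R := Γ(X, U)) (S := MvPolynomial (Fin n) Γ(X, U))).2 inferInstance
  have e2 : (c.W j).ι ≫ p = (c.affine j).isoSpec.hom ≫ Spec.map (p.appLE U (c.W j) (c.le j)) ≫ c.isAffine.fromSpec := by
    rw [IsAffineOpen.SpecMap_appLE_fromSpec p c.isAffine (c.affine j), IsAffineOpen.fromSpec, Category.assoc,
      Iso.hom_inv_id_assoc]
  rw [e2]
  haveI : Flat (Spec.map (p.appLE U (c.W j) (c.le j))) := Flat.SpecMap_iff.2 h
  infer_instance

namespace HasCoords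

variable (hP : HasCoords p O1 n)

include hP in
theorem flat : Flat p := by
  let ι := Σ _ : X, Fin (n + 1)
  refine IsZariskiLocalAtSource.of_iSup_eq_top (P := @Flat) (fun i : ι => (hP.coords i.1).W i.2) ?_
    fun i => (hP.coords i.1).flat i.2
  ext z
  simp only [Opens.coe_iSup, Set.mem_iUnion, Opens.coe_top, Set.mem_univ, iff_true]
  obtain ⟨j, hj⟩ := (hP.coords (p z)).cover z (hP.mem_nhd (p z))
  exact ⟨⟨p z, j⟩, hj⟩

variable [IsLocallyNoetherian X] [IsLocallyNoetherian P] {δP : P → ℤ} {δ : X → ℤ}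
  (hd : Cyc.IsDimFun P δP) (hδ : Cyc.DeltaCompat p δP δ) [LocallyOfFiniteType p]

/-- Pull-back as a homomorphism. -/
def pullHom : AlgebraicCycle X ℤ →+ AlgebraicCycle P ℤ :=
  AddMonoidHom.mk' (hP.pullCycle hd hδ) fun a b => by
    ext z
    show Cyc.pullFun p δP δ n (⇑(a + b)) z = Cyc.pullFun p δP δ n (⇑a) z + Cyc.pullFun p δP δ n (⇑b) z
    simp only [Cyc.pullFun, Function.locallyFinsuppWithin.coe_add, Pi.add_apply]
    split_ifs <;> ring

/-- The cap with `c₁(O(1))` computed with fixed rational sections. -/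
def capHom : AlgebraicCycle P ℤ →+ AlgebraicCycle P ℤ :=
  AddMonoidHom.ofMapSub (fun a => c1CapCycle hP.invertible hd a (hP.sec 0) (hP.sec_ne_zero 0)) fun a b => by
    ext z
    exact cap_sub hP.invertible hd a b _ z

theorem capIter_eq (β : AlgebraicCycle P ℤ) (m : ℕ) :
    capIter hP.invertible hd β (fun _ => hP.sec 0) (fun _ => hP.sec_ne_zero 0) m = (hP.capHom hd)^[m] β := by
  induction m with
  | zero => rfl
  | succ m ih =>
    rw [Function.iterate_succ_apply', ← ih]
    rfl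

/-- Push-forward as a homomorphism. -/
def pushHom [QuasiCompact p] : AlgebraicCycle P ℤ →+ AlgebraicCycle X ℤ :=
  AddMonoidHom.ofMapSub (AlgebraicCycle.map p δP δ) fun a b => CycLib.map_sub' p δP δ a b

variable (hdX : Cyc.IsDimFun X δ)

/-- The class `c₁^m ∩ π^*α`. -/
def cl (m : ℕ) : AlgebraicCycle X ℤ →+ AlgebraicCycle P ℤ where
  toFun α := (hP.capHom hd)^[m] (hP.pullHom hd hδ α)
  map_zero' := by rw [map_zero, iterate_map_zero]
  map_add' a b := by rw [map_add, iterate_map_add]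

theorem cl_eq (m : ℕ) (α : AlgebraicCycle X ℤ) :
    hP.cl hd hδ m α = capIter hP.invertible hd (hP.pullCycle hd hδ α) (fun _ => hP.sec 0) (fun _ => hP.sec_ne_zero 0) m :=
  (hP.capIter_eq hd _ m).symm

theorem cl_mem_Zk {α : AlgebraicCycle X ℤ} {k : ℤ} (hα : α ∈ Cyc.Zk X δ k) (m : ℕ) :
    hP.cl hd hδ m α ∈ Cyc.Zk P δP (k + n - m) := by
  rw [cl_eq]
  exact capIter_mem_Zk hP.invertible hd (hP.pullCycle_mem_Zk hd hδ hα) _ _ m

include hdX in
theorem cl_ratEquivZero {α : AlgebraicCycle X ℤ} {k : ℤ} (hα : α ∈ Cyc.Zk X δ k)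
    (h : Cyc.RatEquivZero δ k α) (m : ℕ) : Cyc.RatEquivZero δP (k + n - m) (hP.cl hd hδ m α) := by
  haveI := hP.flat
  have h0 : Cyc.RatEquiv δP (k + n) (hP.pullCycle hd hδ α) 0 := by
    rw [Cyc.RatEquiv, sub_zero]
    exact DivPull.ratEquivZero_pull p (hP.hasShift hd hδ) hdX hd h _ rfl
  have h1 := ratEquiv_capIter hP.invertible hd (hP.pullCycle_mem_Zk hd hδ hα) h0 (fun _ => hP.sec 0) (fun _ => hP.sec 0)
    (fun _ => hP.sec_ne_zero 0) (fun _ => hP.sec_ne_zero 0) m
  rw [hP.capIter_eq hd, hP.capIter_eq hd, iterate_map_zero, Cyc.RatEquiv, sub_zero] at h1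
  exact h1

include hdX in
theorem push_cl [IsProper p] (hPs : Cyc.IsSetup P δP) (hX : Cyc.IsSetup X δ) {α : AlgebraicCycle X ℤ} {k : ℤ}
    (hα : α ∈ Cyc.Zk X δ k) {m : ℕ} (hm : m ≤ n) :
    Cyc.RatEquiv δ (k + n - m) (AlgebraicCycle.map p δP δ (hP.cl hd hδ m α)) (if m = n then α else 0) :=
  hP.ratEquiv_map_cap hd hdX hδ hPs hX hα (fun _ => hP.sec 0) (fun _ => hP.sec_ne_zero 0)
    (γ := fun i => ⇑(capIter hP.invertible hd (hP.pullCycle hd hδ α) (fun _ => hP.sec 0) (fun _ => hP.sec_ne_zero 0) i))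
    rfl (fun _ => rfl) hm (congrArg _ (hP.cl_eq hd hδ m α))

end HasCoords

/-- The subgroup of cycles rationally equivalent to zero. -/
def ratZero {Z : Scheme.{u}} [IsLocallyNoetherian Z] {d : Z → ℤ} (hZ : Cyc.IsDimFun Z d) (k : ℤ) :
    AddSubgroup (AlgebraicCycle Z ℤ) where
  carrier := {a | Cyc.RatEquivZero d k a}
  zero_mem' := RatOn.ratEquivZero (T := Set.univ) (RatOn.congr (RatOn.zero _) fun _ => rfl)
  add_mem' ha hb := RatOn.ratEquivZero (RatOn.congr
    (RatOn.add hZ (RatOn.of_ratEquivZero ha) (RatOn.of_ratEquivZero hb) 1 1) fun x => by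
      simp only [Function.locallyFinsuppWithin.coe_add, Pi.add_apply, one_mul])
  neg_mem' ha := RatOn.ratEquivZero (RatOn.congr
    (RatOn.add hZ (RatOn.of_ratEquivZero ha) (RatOn.zero _) (-1) 1) fun x => by
      simp only [Function.locallyFinsuppWithin.coe_neg, Pi.neg_apply, neg_mul, one_mul, add_zero])

theorem mem_ratZero {Z : Scheme.{u}} [IsLocallyNoetherian Z] {d : Z → ℤ} (hZ : Cyc.IsDimFun Z d) {k : ℤ}
    {a : AlgebraicCycle Z ℤ} : a ∈ ratZero hZ k ↔ Cyc.RatEquivZero d k a := Iff.rfl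

end Groth.Agent.H23.ProjBd

end
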