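import Groth.Agent.H23.ProjBd.Coords
import Groth.Agent.PBlow.Chart
import Groth.Agent.InvX.Tensor

/-!
Coordinates on a projective bundle given by its universal property.
-/

set_option autoImplicit false
set_option backward.isDefEq.respectTransparency false
set_option backward.isDefEq.respectTransparency.types false

universe u

open CategoryTheory AlgebraicGeometry TopologicalSpace Opposite MvPolynomial

noncomputable section

namespace Groth.Agent.H23.ProjBd

open Groth.Agent Groth.Agent.AModX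

variable {X P : Scheme.{u}} {π : P ⟶ X} {E : X.Modules} {O1 : P.Modules}
  {q : (Scheme.Modules.pullback π).obj E ⟶ O1}

theorem isInvertible_of_projBundle (hP : KRR.IsProjBundle π E O1 q) : PicF.IsInvertible O1 :=
  InvX.isInvertible_of_frames fun x => by
    obtain ⟨W, hx, e, he⟩ := PBlow.exists_frame_rank_one hP.invertible x
    exact ⟨W, hx, e, he⟩

/-- The coordinates given by a frame of `E` over an affine open. -/
def coordsOfFrame (hP : KRR.IsProjBundle π E O1 q) {U : X.Opens} (hU : IsAffineOpen U) {n : ℕ}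
    (b : Fin (n + 1) → Γ(E, U)) (hb : Frame.IsFrame E b) : Coords π O1 n U where
  isAffine := hU
  s := PBlow.sig q b
  W := PBlow.locus q b
  le := PBlow.locus_le q b
  frame := PBlow.isFrame_sig q b
  cover _ hz := PBlow.exists_mem_locus q b hb hP hz
  affine j := (PBlow.chart_iso q b j hb hP hU).1
  ψ := PBlow.coordHom q b
  bij j := (PBlow.chart_iso q b j hb hP hU).2
  ψ_C := PBlow.coordHom_C q b
  ψ_X j i := by rw [PBlow.coordHom_X]; exact PBlow.ratio_smul q b j _
  basicOpen_le j i := by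
    refine PBlow.basicOpen_le_locus q b (PBlow.locus_le q b j) (PBlow.isFrame_sig q b j) ?_
    rw [PBlow.coordHom_X]
    exact (PBlow.ratio_smul q b j _).symm

theorem hasCoords_of_projBundle (hP : KRR.IsProjBundle π E O1 q) {n : ℕ}
    (hE : FlatMod.IsFinLocFreeOfRank (n + 1) E) : HasCoords π O1 n := by
  refine ⟨isInvertible_of_projBundle hP, fun x => ?_⟩
  obtain ⟨W, hxW, ⟨i⟩⟩ := hE x
  obtain ⟨b₀, hb₀⟩ := Frame.exists_frame i
  obtain ⟨_, ⟨U, hU, rfl⟩, hxU, hUW⟩ := X.isBasis_affineOpens.exists_subset_of_mem_open hxW W.isOpen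
  exact ⟨U, hxU, ⟨coordsOfFrame hP hU _ (hb₀.res hUW)⟩⟩

theorem isEmpty_of_projBundle_zero (hP : KRR.IsProjBundle π E O1 q) (hE : FlatMod.IsFinLocFreeOfRank 0 E) :
    IsEmpty P := ⟨fun z => by
  obtain ⟨W, hxW, ⟨i⟩⟩ := hE (π z)
  obtain ⟨b, hb⟩ := Frame.exists_frame i
  obtain ⟨k, -⟩ := PBlow.exists_mem_locus q b hb hP (show z ∈ π ⁻¹ᵁ W from hxW)
  exact k.elim0⟩

end Groth.Agent.H23.ProjBd

end
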