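import Groth.Agent.H23.ProjBd.Hyper
import Groth.Agent.H23.ProjBd.Proper
import Groth.Agent.H23.GrassFlag
import Groth.Agent.H28.PBMake
import Groth.Agent.H28.KRRPush
import Groth.Agent.CohBCX.PullOn
import Groth.Agent.Lib.InvEnd
import Groth.Prelude.Def_C1

/-! An invertible module is the pull-back of a bundle under an embedding as the zero scheme of a section. -/

set_option autoImplicit false
set_option backward.isDefEq.respectTransparency false
set_option backward.isDefEq.respectTransparency.types false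

universe u

open CategoryTheory CategoryTheory.Limits AlgebraicGeometry TopologicalSpace Opposite MvPolynomial

noncomputable section

namespace Groth.Agent.H23.ProjBd.ZeroSection

open Groth.Agent Groth.Agent.AModX RatSec

theorem sub_C_mem {A : Type u} [CommRing A] (f : MvPolynomial (Fin 1) A) :
    f - C (constantCoeff f) ∈ Ideal.span {(MvPolynomial.X 0 : MvPolynomial (Fin 1) A)} := by
  induction f using MvPolynomial.induction_on with
  | C a => simp
  | add f g hf hg =>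
    rw [map_add, map_add, add_sub_add_comm]
    exact Ideal.add_mem _ hf hg
  | mul_X f i _ =>
    obtain rfl : i = 0 := Fin.fin_one_eq_zero i
    rw [map_mul, constantCoeff_X, mul_zero, map_zero, sub_zero]
    exact Ideal.mul_mem_left _ _ (Ideal.mem_span_singleton_self _)

variable {Y P : Scheme.{u}} {L : Y.Modules} {p : P ⟶ Y} {O1 : P.Modules}
  {q : (Scheme.Modules.pullback p).obj (Hyper.comp L) ⟶ O1}

/-- The section `q(1)`. -/
def σ (q : (Scheme.Modules.pullback p).obj (Hyper.comp L) ⟶ O1) : O1.presheaf.obj (op (⊤ : P.Opens)) :=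
  PBlow.sig q (fun _ : Fin 1 => Hyper.one (E := L) (⊤ : Y.Opens)) 0

/-- The quotient `O ⊞ L ⟶ L`. -/
def quot (L : Y.Modules) : (Scheme.Modules.pullback (𝟙 Y)).obj (Hyper.comp L) ⟶ L :=
  (Scheme.Modules.pullback (𝟙 Y)).map biprod.snd ≫ (Scheme.Modules.pullbackId Y).hom.app L

theorem pullSec_σ (o : Y ⟶ P) (ho : o ≫ p = 𝟙 Y) (e : (Scheme.Modules.pullback o).obj O1 ≅ L)
    (he : (Scheme.Modules.pullbackCongr ho).inv.app _ ≫ (Scheme.Modules.pullbackComp o p).inv.app _ ≫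
      (Scheme.Modules.pullback o).map q ≫ e.hom = quot L) :
    QCoh.pullSec o O1 (V := ⊤) (W := (⊤ : Y.Opens)) le_rfl (σ q) = 0 := by
  have h := PBlow.comp_app q (fun _ : Fin 1 => Hyper.one (E := L) (⊤ : Y.Opens)) o (𝟙 Y) ho e
    (W := (⊤ : Y.Opens)) le_rfl le_rfl 0
  rw [he] at h
  have h1 : (quot L).app ⊤ (QCoh.pullSec (𝟙 Y) (Hyper.comp L) (V := ⊤) (W := (⊤ : Y.Opens)) le_rfl
      (Hyper.one (E := L) ⊤)) = 0 := by
    show ((Scheme.Modules.pullbackId Y).hom.app L).app ⊤ (((Scheme.Modules.pullback (𝟙 Y)).map biprod.snd).app ⊤ _) = 0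
    rw [ExistEasy.pullSec_natural, CohBCX.pullbackId_pullSec]
    have e12 : (biprod.inl : Coh.structureModule Y ⟶ Hyper.comp L) ≫ biprod.snd = 0 := biprod.inl_snd
    have : (biprod.snd : Hyper.comp L ⟶ L).app ⊤ (Hyper.one (E := L) ⊤) = 0 :=
      congrArg (fun f => Scheme.Modules.Hom.app f ⊤ (1 : Γ(Y, ⊤))) e12
    rw [this, map_zero]
  rw [h1] at h
  have hb : Function.Injective (e.hom.app (⊤ : Y.Opens)) := fun a b hab => by
    have := congrArg (e.inv.app (⊤ : Y.Opens)) hab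
    have hid : ∀ z, e.inv.app (⊤ : Y.Opens) (e.hom.app ⊤ z) = z := fun z =>
      congrArg (fun f => Scheme.Modules.Hom.app f ⊤ z) e.hom_inv_id
    rwa [hid, hid] at this
  exact hb (h.symm.trans (map_zero _).symm)

variable (hP : KRR.IsProjBundle p (Hyper.comp L) O1 q) {o : Y ⟶ P} (ho : o ≫ p = 𝟙 Y)
  (hσ : QCoh.pullSec o O1 (V := ⊤) (W := (⊤ : Y.Opens)) le_rfl (σ q) = 0)

include hσ in
theorem not_mem_W₀ (y : Y) : o y ∉ Hyper.W₀ q := by
  intro hy
  let W := o ⁻¹ᵁ Hyper.W₀ q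
  have hf : InvX.IsFrame (QCoh.pullSec o O1 (V := ⊤) (W := W) le_top (σ q)) := by
    have h := PBlow.isFrame_pullSec (g := o) (le_rfl : W ≤ o ⁻¹ᵁ Hyper.W₀ q)
      (PBlow.isFrame_sig q (fun _ : Fin 1 => Hyper.one (E := L) (⊤ : Y.Opens)) 0)
    erw [PBlow.pullSec_restr] at h
    exact h
  have h0 : QCoh.pullSec o O1 (V := ⊤) (W := W) le_top (σ q) = 0 :=
    (PBlow.res_pullSec (g := o) (M := O1) (le_top : W ≤ ⊤) le_rfl (σ q)).symm.trans ((congrArg (res _ _) hσ).trans (map_zero _))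
  have hfr := isGen_germ hf y hy
  rw [h0, map_zero] at hfr
  have := hfr.2 1 (smul_zero _)
  exact one_ne_zero this

include hP ho hσ in
theorem exists_zeroScheme (hL : FlatMod.IsFinLocFreeOfRank 1 L) [IsClosedImmersion o] :
    Cyc.IsZeroSchemeOf o O1 (σ q) := by
  have key : ∀ y₀ : Y, ∃ (U : Y.Opens) (c : Coords p O1 1 U), y₀ ∈ U ∧ c.W 0 = Hyper.W₀ q ⊓ p ⁻¹ᵁ U ∧
      c.s 0 = res O1 (p.preimage_mono le_top) (σ q) := fun y₀ => by
    obtain ⟨U, hU, c, h1, h2⟩ := Hyper.exists_coords hP hL y₀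
    exact ⟨U, c, hU, h1, h2⟩
  have hop : ∀ y, p (o y) = y := fun y => by
    show (o ≫ p) y = y
    rw [ho]; rfl
  have hW1 : ∀ {U : Y.Opens} (c : Coords p O1 1 U), c.W 0 = Hyper.W₀ q ⊓ p ⁻¹ᵁ U → U = o ⁻¹ᵁ c.W 1 := by
    intro U c hc
    refine le_antisymm (fun y hy => ?_) (fun y hy => ?_)
    · have hz : o y ∈ p ⁻¹ᵁ U := show p (o y) ∈ U by rw [hop]; exact hy
      obtain ⟨l, hl⟩ := c.cover _ hz
      fin_cases l
      · exact absurd (show o y ∈ Hyper.W₀ q by
          have : o y ∈ c.W 0 := hl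
          rw [hc] at this; exact this.1) (not_mem_W₀ hσ y)
      · exact hl
    · have := c.le 1 hy
      rw [← hop y]
      exact this
  -- the kernel on a chart
  have hker : ∀ {U : Y.Opens} (c : Coords p O1 1 U) (hc : c.W 0 = Hyper.W₀ q ⊓ p ⁻¹ᵁ U)
      (_ : c.s 0 = res O1 (p.preimage_mono le_top) (σ q)),
      RingHom.ker (o.app (c.W 1)).hom = Ideal.span {c.ψ 1 (MvPolynomial.X 0)} := by
    intro U c hc hs
    have hU : U = o ⁻¹ᵁ c.W 1 := hW1 c hc
    let φ : Γ(P, c.W 1) →+* Γ(Y, U) := (o.appLE (c.W 1) U hU.le).hom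
    have hφC : ∀ a, φ (c.ψ 1 (C a)) = a := fun a => by
      rw [c.ψ_C]
      show (p.appLE U (c.W 1) (c.le 1) ≫ o.appLE (c.W 1) U hU.le) a = a
      rw [Scheme.Hom.appLE_comp_appLE]
      simp only [ho]
      simp [Scheme.Hom.appLE]
      exact congr($(Y.presheaf.map_id _) a)
    have hφX : φ (c.ψ 1 (MvPolynomial.X 0)) = 0 := by
      have h := congrArg (QCoh.pullSec o O1 hU.le) (c.ψ_X 1 0)
      have h0 : QCoh.pullSec o O1 (V := ⊤) (W := U) le_top (σ q) = 0 :=
        (PBlow.res_pullSec (g := o) (M := O1) (le_top : U ≤ ⊤) le_rfl (σ q)).symm.trans ((congrArg (res _ _) hσ).trans (map_zero _))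
      rw [QCoh.pullSec_smul, show ((1 : Fin 2).succAbove 0) = 0 from rfl, hs, res_res] at h
      erw [PBlow.pullSec_restr (V := (⊤ : P.Opens)) (V' := c.W 1), h0] at h
      have hf := PBlow.isFrame_pullSec (g := o) hU.le (c.frame 1)
      refine hf.coord_unique le_rfl ?_
      rw [res_self, zero_smul]
      exact h
    have hφ : ∀ f, φ (c.ψ 1 f) = constantCoeff f := RingHom.congr_fun
      (MvPolynomial.ringHom_ext (f := φ.comp (c.ψ 1)) (g := constantCoeff)
        (fun a => by rw [constantCoeff_C]; exact hφC a)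
        fun i => by rw [Fin.fin_one_eq_zero i, constantCoeff_X]; exact hφX)
    have hk : RingHom.ker φ = Ideal.span {c.ψ 1 (MvPolynomial.X 0)} := by
      refine le_antisymm (fun g hg => ?_) ((Ideal.span_singleton_le_iff_mem _).2 hφX)
      obtain ⟨f, rfl⟩ := (c.bij 1).2 g
      have hf := sub_C_mem f
      rw [show constantCoeff f = 0 from (hφ f).symm.trans hg, map_zero, sub_zero] at hf
      have := Ideal.mem_map_of_mem (c.ψ 1) hf
      rwa [Ideal.map_span, Set.image_singleton] at this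
    have e : ∀ (V : Y.Opens) (hV : V = o ⁻¹ᵁ c.W 1),
        RingHom.ker (o.app (c.W 1)).hom = RingHom.ker (o.appLE (c.W 1) V hV.le).hom := fun V hV => by
      subst hV
      rw [Scheme.Hom.app_eq_appLE]
    exact (e U hU).trans hk
  have hgerm : ∀ {U : Y.Opens} (c : Coords p O1 1 U) (_ : c.s 0 = res O1 (p.preimage_mono le_top) (σ q))
      (z : P) (hz : p z ∈ U), O1.presheaf.germ ⊤ z trivial (σ q) = c.sg 0 z hz := by
    intro U c hs z hz
    rw [Coords.sg, hs]
    exact (O1.presheaf.germ_res_apply _ z hz (σ q)).symm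
  refine ⟨Set.ext fun z => ⟨?_, fun hz => ?_⟩, fun y => ?_⟩
  · rintro ⟨y, rfl⟩
    obtain ⟨U, c, hyU, hc, hs⟩ := key y
    have hzU : p (o y) ∈ U := by rw [hop]; exact hyU
    show cls O1 _ _ = 0
    rw [hgerm c hs _ hzU]
    by_contra h
    have : o y ∈ c.W 0 := (c.mem_W_iff 0 _ hzU).2 h
    rw [hc] at this
    exact not_mem_W₀ hσ y this.1
  · obtain ⟨U, c, hyU, hc, hs⟩ := key (p z)
    have h0 : c.cs 0 z hyU = 0 := by
      have : cls O1 z (O1.presheaf.germ ⊤ z trivial (σ q)) = 0 := hz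
      rwa [hgerm c hs _ hyU] at this
    obtain ⟨l, hl⟩ := c.cover z hyU
    fin_cases l
    · exact absurd h0 ((c.mem_W_iff 0 z hyU).1 hl)
    have hz1 : z ∈ c.W 1 := hl
    refine ⟨p z, c.eq_of_pr_eq 1 (show o (p z) ∈ c.W 1 from (hW1 c hc).le hyU) hz1 ?_⟩
    have hX : ∀ (w : P) (hw : w ∈ c.W 1), c.cs 0 w (c.le 1 hw) = 0 →
        (MvPolynomial.X 0 : MvPolynomial (Fin 1) Γ(Y, U)) ∈ c.pr 1 w hw := fun w hw h =>
      (c.X_mem_pr_iff 1 0 w hw).2 h
    have hmem : ∀ (w : P) (hw : w ∈ c.W 1) (hwp : p w = p z), c.cs 0 w (c.le 1 hw) = 0 →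
        ∀ f, f ∈ c.pr 1 w hw ↔ constantCoeff f ∈ (c.isAffine.primeIdealOf ⟨p z, hyU⟩).asIdeal := by
      intro w hw hwp h f
      have hsub : f - C (constantCoeff f) ∈ c.pr 1 w hw :=
        (Ideal.span_singleton_le_iff_mem _).2 (hX w hw h) (sub_C_mem f)
      rw [show f ∈ c.pr 1 w hw ↔ C (constantCoeff f) ∈ c.pr 1 w hw from
        ⟨fun hf => by simpa using Ideal.sub_mem _ hf hsub, fun hf => by simpa using Ideal.add_mem _ hsub hf⟩,
        c.C_mem_pr_iff 1 w hw]
      simp only [hwp]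
    ext f
    rw [hmem z hz1 rfl h0 f, hmem (o (p z)) ((hW1 c hc).le hyU) (hop _) ?_ f]
    by_contra h
    have := (c.mem_W_iff 0 _ _).2 h
    rw [hc] at this
    exact not_mem_W₀ hσ _ this.1
  · obtain ⟨U, c, hyU, hc, hs⟩ := key y
    have hy1 : o y ∈ c.W 1 := (hW1 c hc).le hyU
    refine ⟨c.sg 1 (o y) (c.le 1 hy1), P.presheaf.germ (c.W 1) (o y) hy1 (c.ψ 1 (MvPolynomial.X 0)),
      (c.isGen_sg 1 _ hy1).1, ?_, ?_⟩
    · rw [hgerm c hs _ (c.le 1 hy1)]
      exact c.sg_succAbove 1 0 (o y) hy1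
    · rw [H28.KRRPush.ker_stalkMap o y (c.affine 1) hy1, Scheme.Hom.ker_apply]
      show Ideal.map _ (RingHom.ker (o.app (c.W 1)).hom) = _
      rw [hker c hc hs, Ideal.map_span, Set.image_singleton]

/-- An invertible module is the normal bundle of a zero scheme. -/
theorem exists_data (hL : FlatMod.IsFinLocFreeOfRank 1 L) : ∃ (P : Scheme.{u}) (p : P ⟶ Y) (M : P.Modules)
    (s : M.presheaf.obj (op (⊤ : P.Opens))) (o : Y ⟶ P), IsProper p ∧ PicF.IsInvertible M ∧ IsClosedImmersion o ∧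
      o ≫ p = 𝟙 Y ∧ Cyc.IsZeroSchemeOf o M s ∧ Nonempty ((Scheme.Modules.pullback o).obj M ≅ L) := by
  have hcomp : FlatMod.IsFinLocFreeOfRank (1 + 1) (Hyper.comp L) := fun x => by
    obtain ⟨V, hxV, ⟨i⟩⟩ := hL x
    obtain ⟨b, hb⟩ := Frame.exists_frame i
    exact ⟨V, hxV, Frame.exists_iso_of_frame _ (Hyper.isFrame_consFrame hb)⟩
  obtain ⟨P, p, O1, q, hP⟩ := H28.PBMake.exists_of_rank hcomp
  haveI := isProper_of_projBundle hP hcomp
  haveI : Epi (quot L) := by
    haveI : Epi ((Scheme.Modules.pullback (𝟙 Y)).map (biprod.snd : Hyper.comp L ⟶ L)) :=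
      Grass.epi_pullback_map _ _
    exact epi_comp _ _
  obtain ⟨o, ⟨ho, e, he⟩, -⟩ := hP.univ Y (𝟙 Y) L hL (quot L) inferInstance
  haveI : IsClosedImmersion o := by
    haveI : IsClosedImmersion (o ≫ p) := by rw [ho]; infer_instance
    exact IsClosedImmersion.of_comp o p
  exact ⟨P, p, O1, σ q, o, inferInstance, isInvertible_of_projBundle hP, inferInstance, ho,
    exists_zeroScheme hP ho (pullSec_σ o ho e he) hL, ⟨e⟩⟩

end Groth.Agent.H23.ProjBd.ZeroSection

end
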