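import Groth.Agent.H23.ProjBd.Coords
import Groth.Agent.PBlow.PB
import Groth.Agent.PicClLib.Basic
import Mathlib.AlgebraicGeometry.Morphisms.Flat

/-! Coordinates of a base change of a projective bundle. -/

set_option autoImplicit false
set_option backward.isDefEq.respectTransparency false
set_option backward.isDefEq.respectTransparency.types false

universe u

open CategoryTheory CategoryTheory.Limits AlgebraicGeometry TopologicalSpace Opposite MvPolynomial

noncomputable section

namespace Groth.Agent.H23.ProjBd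

open Groth.Agent Groth.Agent.AModX

/-- Polynomial rings are stable under base change. -/
theorem bijective_eval₂Hom_of_isPushout {A B S T : CommRingCat.{u}} {ι : Type} {a : A ⟶ S} {b : A ⟶ B} {c : S ⟶ T}
    {d : B ⟶ T} (h : IsPushout a b c d) (ψ : MvPolynomial ι A →+* S) (hψ : Function.Bijective ψ)
    (hC : ∀ x, ψ (C x) = a x) : Function.Bijective (eval₂Hom d.hom fun i => c (ψ (MvPolynomial.X i))) := by
  let φ := eval₂Hom d.hom fun i => c (ψ (MvPolynomial.X i))
  let e := RingEquiv.ofBijective ψ hψ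
  let R := CommRingCat.of (MvPolynomial ι B)
  let u : S ⟶ R := CommRingCat.ofHom ((MvPolynomial.map b.hom).comp e.symm.toRingHom)
  let v : B ⟶ R := CommRingCat.ofHom C
  have hu : ∀ p, u (ψ p) = MvPolynomial.map b.hom p := fun p => congrArg (MvPolynomial.map b.hom) (e.symm_apply_apply p)
  have w : a ≫ u = b ≫ v := by
    refine CommRingCat.hom_ext (RingHom.ext fun x => ?_)
    show u (a x) = C (b x)
    rw [← hC, hu, map_C]
  let D : T ⟶ R := h.desc u v w
  have hDc : ∀ s, D (c s) = u s := fun s => ConcreteCategory.congr_hom (h.inl_desc u v w) s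
  have hDd : ∀ s, D (d s) = C s := fun s => ConcreteCategory.congr_hom (h.inr_desc u v w) s
  have h1 : ∀ p, D (φ p) = p := by
    intro p
    refine RingHom.congr_fun (MvPolynomial.ringHom_ext (f := D.hom.comp φ) (g := RingHom.id _) (fun x => ?_) fun i => ?_) p
    · show D (φ (C x)) = C x
      rw [eval₂Hom_C, hDd]
    · show D (φ (MvPolynomial.X i)) = MvPolynomial.X i
      rw [eval₂Hom_X', hDc, hu, map_X]
  have h2 : D ≫ CommRingCat.ofHom φ = 𝟙 T := by
    refine h.hom_ext ?_ ?_
    · ext s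
      obtain ⟨p, rfl⟩ := hψ.2 s
      show φ (D (c (ψ p))) = c (ψ p)
      rw [hDc, hu]
      refine RingHom.congr_fun (MvPolynomial.ringHom_ext (f := φ.comp (MvPolynomial.map b.hom)) (g := c.hom.comp ψ)
        (fun x => ?_) fun i => ?_) p
      · show φ (MvPolynomial.map b.hom (C x)) = c (ψ (C x))
        rw [map_C, eval₂Hom_C, hC]
        exact (ConcreteCategory.congr_hom h.w x).symm
      · show φ (MvPolynomial.map b.hom (MvPolynomial.X i)) = c (ψ (MvPolynomial.X i))
        rw [map_X, eval₂Hom_X']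
    · ext x
      show φ (D (d x)) = d x
      rw [hDd, eval₂Hom_C]
  exact ⟨Function.LeftInverse.injective (g := D) h1,
    Function.RightInverse.surjective (g := D) fun t => ConcreteCategory.congr_hom h2 t⟩

variable {X Y P P' : Scheme.{u}} {f : X ⟶ Y} {π : P ⟶ Y} {π' : P' ⟶ X} {f' : P' ⟶ P} (hsq : IsPullback f' π' π f)
  {O1 : P.Modules} {n : ℕ} {U : Y.Opens} (c : Coords π O1 n U) {V : X.Opens} (hV : IsAffineOpen V) (e : V ≤ f ⁻¹ᵁ U)

/-- The chart opens of a base change. -/
def bcW (π' : P' ⟶ X) (f' : P' ⟶ P) (V : X.Opens) (j : Fin (n + 1)) : P'.Opens := f' ⁻¹ᵁ c.W j ⊓ π' ⁻¹ᵁ V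

theorem bcW_le (j : Fin (n + 1)) : bcW c π' f' V j ≤ f' ⁻¹ᵁ (π ⁻¹ᵁ U) :=
  inf_le_left.trans (f'.preimage_mono (c.le j))

include hsq e in
theorem preimage_le : π' ⁻¹ᵁ V ≤ f' ⁻¹ᵁ (π ⁻¹ᵁ U) := fun z hz => by
  show (f' ≫ π) z ∈ U
  rw [hsq.w]
  exact e hz

/-- The coordinates of a base change. -/
def bcψ (j : Fin (n + 1)) : MvPolynomial (Fin n) Γ(X, V) →+* Γ(P', bcW c π' f' V j) :=
  eval₂Hom (π'.appLE V (bcW c π' f' V j) inf_le_right).hom
    fun i => f'.appLE (c.W j) (bcW c π' f' V j) inf_le_left (c.ψ j (MvPolynomial.X i))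

include hsq hV e in
theorem bcψ_bijective (j : Fin (n + 1)) : Function.Bijective (bcψ c (π' := π') (f' := f') (V := V) j) :=
  bijective_eval₂Hom_of_isPushout
    ((isIso_pushoutSection_iff hsq e (c.le j) rfl).1
      (isIso_pushoutSection_of_isAffineOpen hsq e (c.le j) rfl c.isAffine hV (c.affine j)))
    (c.ψ j) (c.bij j) (c.ψ_C j)

/-- Coordinates of a base change. -/
def bcCoords : Coords π' ((Scheme.Modules.pullback f').obj O1) n V where
  isAffine := hV
  s l := QCoh.pullSec f' O1 (preimage_le hsq e) (c.s l)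
  W := bcW c π' f' V
  le _ := inf_le_right
  frame j := by
    have := PBlow.isFrame_pullSec f' (inf_le_left : bcW c π' f' V j ≤ f' ⁻¹ᵁ c.W j) (c.frame j)
    rw [PBlow.pullSec_restr f' (c.le j)] at this
    rwa [PBlow.res_pullSec]
  cover z hz := by
    obtain ⟨j, hj⟩ := c.cover (f' z) (preimage_le hsq e hz)
    exact ⟨j, hj, hz⟩
  affine j := by
    haveI : IsAffine _ := c.affine j
    haveI : IsAffine _ := c.isAffine
    haveI : IsAffine _ := hV
    exact .of_isIso (Scheme.Hom.isPullback_resLE hsq e (c.le j) rfl).isoPullback.hom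
  ψ := bcψ c
  bij := bcψ_bijective hsq c hV e
  ψ_C j a := eval₂Hom_C _ _ a
  ψ_X j i := by
    rw [bcψ, eval₂Hom_X', PBlow.res_pullSec, PBlow.res_pullSec, ← PBlow.pullSec_restr f' (c.le j) inf_le_left,
      ← PBlow.pullSec_restr f' (c.le j) inf_le_left (c.s (j.succAbove i)), ← QCoh.pullSec_smul, c.ψ_X]
  basicOpen_le j i := by
    rw [bcψ, eval₂Hom_X', Scheme.basicOpen_appLE]
    exact le_inf (inf_le_right.trans (f'.preimage_mono (c.basicOpen_le j i))) (inf_le_left.trans inf_le_right)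

include hsq in
theorem HasCoords.baseChange (hP : HasCoords π O1 n) : HasCoords π' ((Scheme.Modules.pullback f').obj O1) n := by
  refine ⟨PicClLib.isInvertible_pullback f' hP.invertible, fun x => ?_⟩
  obtain ⟨U, hxU, ⟨c⟩⟩ := hP.exists_coords (f x)
  obtain ⟨V, hV, hxV, e⟩ := exists_isAffineOpen_mem_and_subset (x := x) (U := f ⁻¹ᵁ U) hxU
  exact ⟨V, hxV, ⟨bcCoords hsq c hV e⟩⟩

end Groth.Agent.H23.ProjBd

end
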