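import Groth.Agent.H23.ProjBd.Stratum
import Groth.Agent.H23.ProjBd.Ops

/-! The classes `c₁^i ∩ π^*α_i` span the Chow groups of a projective bundle. -/

set_option autoImplicit false
set_option backward.isDefEq.respectTransparency false
set_option backward.isDefEq.respectTransparency.types false

universe u

open CategoryTheory AlgebraicGeometry TopologicalSpace Opposite

noncomputable section

namespace Groth.Agent.H23.ProjBd

open Groth.Agent Groth.Agent.H23.RatOn Homotopy FlatShift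

variable {X P : Scheme.{u}} {p : P ⟶ X} {O1 : P.Modules} {n : ℕ}

namespace Coords

variable {U : X.Opens} (c : Coords p O1 n U) [IsLocallyNoetherian P] {δP : P → ℤ} {δ : X → ℤ}

/-- Modulo lower strata and rational equivalence, `F` is a multiple of `η_j`. -/
def Good (δP : P → ℤ) (δ : X → ℤ) (T : Set P) (ξ : X) (j : ℕ) (e : ℤ) (F : P → ℤ) : Prop :=
  ∃ (d : ℤ) (G : P → ℤ), ZeroOn δP e (p ⁻¹' closure {ξ} ∩ T) G ∧
    ∀ x, δ ξ ≤ δ (p x) → F x = d * (@ite _ (c.IsEta ξ j x) (Classical.propDecidable _) 1 0) + G x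

variable {T : Set P} {ξ : X} {j : ℕ} {e : ℤ}

theorem Good.add (hd : Cyc.IsDimFun P δP) {F F' : P → ℤ} (h : c.Good δP δ T ξ j e F) (h' : c.Good δP δ T ξ j e F')
    (a a' : ℤ) : c.Good δP δ T ξ j e fun x => a * F x + a' * F' x := by
  obtain ⟨d, G, hG, hF⟩ := h
  obtain ⟨d', G', hG', hF'⟩ := h'
  exact ⟨a * d + a' * d', fun x => a * G x + a' * G' x, RatOn.add hd hG hG' a a', fun x hx => by
    show a * F x + a' * F' x = _
    rw [hF x hx, hF' x hx]; ring⟩

theorem Good.of_eqOn {F F' : P → ℤ} (h : c.Good δP δ T ξ j e F) (he : ∀ x, δ ξ ≤ δ (p x) → F' x = F x) :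
    c.Good δP δ T ξ j e F' := by
  obtain ⟨d, G, hG, hF⟩ := h
  exact ⟨d, G, hG, fun x hx => (he x hx).trans (hF x hx)⟩

theorem good_zero : c.Good δP δ T ξ j e fun _ => 0 :=
  ⟨0, fun _ => 0, RatOn.zero _, fun x _ => by rw [zero_mul, add_zero]⟩

theorem good_of_support (hd : Cyc.IsDimFun P δP) (s : Finset P) : ∀ F : P → ℤ,
    (∀ x, δ ξ ≤ δ (p x) → F x ≠ 0 → x ∈ s) → (∀ x ∈ s, c.Good δP δ T ξ j e (single x)) → c.Good δP δ T ξ j e F := by
  classical
  induction s using Finset.induction_on with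
  | empty =>
    exact fun F hF _ => (c.good_zero).of_eqOn c fun x hx => by_contra fun h => Finset.notMem_empty x (hF x hx h)
  | @insert a s ha ih =>
    intro F hF hs
    let F' : P → ℤ := fun x => if x = a then 0 else F x
    have h' := ih F' (fun x hx hne => by
      have hxa : x ≠ a := fun h => hne (if_pos h)
      exact (Finset.mem_insert.1 (hF x hx (fun h => hne ((if_neg hxa).trans h)))).resolve_left hxa)
      fun x hx => hs x (Finset.mem_insert_of_mem hx)
    refine (h'.add c hd (hs a (Finset.mem_insert_self a s)) 1 (F a)).of_eqOn c fun x _ => ?_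
    by_cases hxa : x = a
    · subst hxa; simp [F', single]
    · simp [F', single, hxa]

variable [IsLocallyNoetherian X] [QuasiCompact p] (hd : Cyc.IsDimFun P δP) (hdX : Cyc.IsDimFun X δ)
  (hδ : Cyc.DeltaCompat p δP δ)

include hd hdX hδ in
theorem good_single {i₀ : ℕ} (hT : ∀ x, p x ∈ U → c.Vanish i₀ x → x ∈ T) (hξ : ξ ∈ U)
    (hje : e = δ ξ + ((n - j : ℕ) : ℤ)) (hj : j ≤ n) :
    ∀ (t i : ℕ), n + 1 ≤ i + t → i₀ ≤ i → ∀ z : P, p z = ξ → δP z = e → c.Vanish i z → c.Good δP δ T ξ j e (single z) := by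
  classical
  intro t
  induction t with
  | zero =>
    intro i hi _ z hz _ hv
    obtain ⟨l, hl⟩ := c.cover z (show p z ∈ U by rw [hz]; exact hξ)
    have := c.le_of_vanish hl hv
    have := l.2
    omega
  | succ t ih =>
    intro i hi hi₀ z hz hze hv
    have hzU : p z ∈ U := hz ▸ hξ
    have hi' : i < n + 1 := by
      obtain ⟨l, hl⟩ := c.cover z hzU
      have := c.le_of_vanish hl hv
      have := l.2
      omega
    by_cases hzW : z ∈ c.W ⟨i, hi'⟩
    swap
    · exact ih (i + 1) (by omega) (by omega) z hz hze (c.vanish_succ hi' hzU hv hzW)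
    obtain ⟨η, hη⟩ := c.exists_isEta hξ (show i ≤ n by omega)
    by_cases hne : z = η
    · subst hne
      have hδη := hη.delta_eq c hξ hd hδ (by omega)
      obtain rfl : i = j := by omega
      refine ⟨1, fun _ => 0, RatOn.zero _, fun x _ => ?_⟩
      rw [one_mul, add_zero]
      exact if_congr ⟨fun h => h ▸ hη, fun h => h.unique c hξ hη⟩ rfl rfl
    obtain ⟨G, hG₁, hstep⟩ := c.stratum_step hξ hd hi' hzW hz hv hη hne
    rw [hze] at hG₁
    have hG : ZeroOn δP e (p ⁻¹' closure {ξ} ∩ T) G :=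
      RatOn.mono hG₁ fun x hx => ⟨hx.1, hT x hx.2.1 fun h l hl => hx.2.2 h l (hl.trans_le hi₀)⟩
    let F : P → ℤ := fun x => if p x = ξ then single z x - G x else 0
    have hfin : (Function.support F).Finite := by
      let R : P → ℤ := fun x => single z x - G x
      have hloc : ∀ x : P, ∃ V ∈ nhds x, (V ∩ Function.support R).Finite := fun x => by
        obtain ⟨V, hV, hf⟩ := locFin_zeroOn hd hG x
        refine ⟨V, hV, (hf.union (Set.finite_singleton z)).subset ?_⟩
        rintro y ⟨hyV, hy⟩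
        by_cases h : y = z
        · exact Or.inr h
        · exact Or.inl ⟨hyV, fun hG0 => hy (by simp [R, single, h, hG0])⟩
      choose V hV hVf using hloc
      have hK : IsCompact (p ⁻¹' (U : Set X)) := (quasiCompact_iff p).1 inferInstance U U.2 c.isAffine.isCompact
      obtain ⟨s, -, hs⟩ := hK.elim_nhds_subcover V fun x _ => hV x
      refine (s.finite_toSet.biUnion fun x _ => hVf x).subset fun y hy => ?_
      have hpy : p y = ξ := by_contra fun h => hy (if_neg h)
      have hyU : y ∈ p ⁻¹' (U : Set X) := show p y ∈ U from hpy ▸ hξ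
      obtain ⟨x, hx, hyx⟩ := Set.mem_iUnion₂.1 (hs hyU)
      exact Set.mem_biUnion hx ⟨hyx, fun h => hy ((if_pos hpy).trans h)⟩
    have hFgood : c.Good δP δ T ξ j e F := c.good_of_support hd hfin.toFinset F
      (fun x _ h => hfin.mem_toFinset.2 h) fun x hx => by
        have hx' : F x ≠ 0 := hfin.mem_toFinset.1 hx
        have hpx : p x = ξ := by_contra fun h => hx' (if_neg h)
        have hR : single z x - G x ≠ 0 := fun h => hx' ((if_pos hpx).trans h)
        refine ih (i + 1) (by omega) (by omega) x hpx ?_ (hstep x hpx hR)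
        by_cases hxz : x = z
        · rw [hxz, hze]
        · exact (exists_gen_of_zeroOn hG fun h => hR (by simp [single, hxz, h])).1
    refine (Good.add c hd hFgood (⟨0, G, hG, fun x _ => by rw [zero_mul, zero_add]⟩ : c.Good δP δ T ξ j e G) 1 1).of_eqOn c
      fun x hx => ?_
    simp only [one_mul, F]
    by_cases hpx : p x = ξ
    · rw [if_pos hpx]; ring
    rw [if_neg hpx, zero_add, single, if_neg fun h : x = z => hpx (by rw [h]; exact hz)]
    by_contra hne'
    obtain ⟨-, ζ, ⟨hζ, -⟩, hζx⟩ := exists_gen_of_zeroOn hG (Ne.symm hne')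
    have hsp : ξ ⤳ p x := (specializes_iff_mem_closure.2 hζ).trans (hζx.map p.continuous)
    exact hpx (CycLib.eq_of_delta_le hdX hsp hx).symm

end Coords

namespace Atlas

variable (A : Atlas p O1 n) [IsLocallyNoetherian X] [IsLocallyNoetherian P] [IsProper p]
  {δP : P → ℤ} {δ : X → ℤ} (hd : Cyc.IsDimFun P δP) (hdX : Cyc.IsDimFun X δ) (hδ : Cyc.DeltaCompat p δP δ)
  {T : Set P} {i₀ : ℕ} (hTc : IsClosed T) (hT : ∀ x z, p z ∈ A.nhd x → (z ∈ T ↔ (A.coords x).Vanish i₀ z))
  (hTcyc : ∀ (α : AlgebraicCycle X ℤ) (N : ℕ), i₀ ≤ N → N ≤ n → ∀ z, A.cycle hd hδ α N z ≠ 0 → z ∈ T)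

include hdX hTc hT hTcyc in
/-- Removing the part over the top dimension of the base. -/
theorem span_step {k : ℤ} {N : ℕ} (hN : N ≤ n) (hN₀ : i₀ ≤ N) {β : AlgebraicCycle P ℤ} (hβ : β ∈ Cyc.Zk P δP (k + n))
    (hβT : ∀ x, β x ≠ 0 → x ∈ T)
    (htop : ∀ x, β x ≠ 0 → δ (p x) < k + N + 1) :
    ∃ (α : AlgebraicCycle X ℤ) (β' : AlgebraicCycle P ℤ), α ∈ Cyc.Zk X δ (k + N) ∧ β' ∈ Cyc.Zk P δP (k + n) ∧
      (∀ x, β' x ≠ 0 → δ (p x) < k + N) ∧ (∀ x, β' x ≠ 0 → x ∈ T) ∧ Cyc.RatEquiv δP (k + n) β (β' + A.hasCoords.cl hd hδ N α) := by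
  classical
  let Top := {z : P // β z ≠ 0 ∧ δ (p z) = k + N}
  have hδz : ∀ z : Top, δP z.1 = k + n := fun z => by_contra fun h => z.2.1 (hβ z.1 h)
  have hgood : ∀ z : Top, (A.coords (p z.1)).Good δP δ T (p z.1) N (k + n) (single z.1) := fun z =>
    (A.coords (p z.1)).good_single hd hdX hδ (fun x hx hv => (hT _ x hx).2 hv) (A.mem_nhd _)
      (by rw [z.2.2]; push_cast [Nat.cast_sub hN]; ring) hN
      (n + 1) i₀ (by omega) le_rfl z.1 rfl (hδz z) ((hT _ z.1 (A.mem_nhd _)).1 (hβT z.1 z.2.1))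
  choose d G hG hF using hgood
  have hloc : ∀ z : X, ∀ V : X.Opens, z ∈ V → IsAffineOpen V → {w : Top | p w.1 ∈ V}.Finite := fun z V _ hV =>
    ((β.locallyFiniteSupport.finite_inter_support_of_isCompact
      ((quasiCompact_iff p).1 inferInstance V V.2 hV.isCompact)).preimage Subtype.val_injective.injOn).subset
      fun w hw => ⟨hw, w.2.1⟩
  have hfin : ∀ ξ : X, {w : Top | p w.1 = ξ}.Finite := fun ξ => by
    obtain ⟨V, hV, hξV, -⟩ := exists_isAffineOpen_mem_and_subset (x := ξ) (U := ⊤) trivial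
    exact (hloc ξ V hξV hV).subset fun w (hw : p w.1 = ξ) => show p w.1 ∈ V by rw [hw]; exact hξV
  let aF : X → ℤ := fun ξ => ∑ᶠ w : Top, if p w.1 = ξ then β w.1 * d w else 0
  have haF : ∀ ξ, aF ξ ≠ 0 → ∃ w : Top, p w.1 = ξ := fun ξ h => by
    by_contra hn
    push Not at hn
    exact h (finsum_eq_zero_of_forall_eq_zero fun w => if_neg (hn w))
  let α : AlgebraicCycle X ℤ :=
    { toFun := aF
      supportWithinDomain' := fun _ _ => trivial
      supportLocallyFiniteWithinDomain' := fun ξ _ => by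
        obtain ⟨V, hV, hξV, -⟩ := exists_isAffineOpen_mem_and_subset (x := ξ) (U := ⊤) trivial
        refine ⟨V, V.2.mem_nhds hξV, ((hloc ξ V hξV hV).image fun w => p w.1).subset ?_⟩
        rintro y ⟨hyV, hy⟩
        obtain ⟨w, rfl⟩ := haF y hy
        exact ⟨w, hyV, rfl⟩ }
  have hα : α ∈ Cyc.Zk X δ (k + N) := fun ξ hξ => by_contra fun h => by
    obtain ⟨w, rfl⟩ := haF ξ h
    exact hξ w.2.2
  let Gt : P → ℤ := fun x => ∑ᶠ w : Top, β w.1 * G w x
  have hGt : ZeroOn δP (k + n) T Gt := RatOn.sum hd _ G (fun w : Top => p ⁻¹' closure {p w.1} ∩ T)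
    (fun _ => Set.inter_subset_right) hG fun x => by
      obtain ⟨V, hV, hxV, -⟩ := exists_isAffineOpen_mem_and_subset (x := p x) (U := ⊤) trivial
      refine ⟨p ⁻¹' (V : Set X), V.2.preimage p.continuous, hxV, (hloc (p x) V hxV hV).subset ?_⟩
      rintro w ⟨⟨y, ⟨hy, -⟩, hyV⟩, -⟩
      exact (specializes_iff_mem_closure.2 hy).mem_open V.2 hyV
  let Gc : AlgebraicCycle P ℤ :=
    { toFun := Gt
      supportWithinDomain' := fun _ _ => trivial
      supportLocallyFiniteWithinDomain' := fun x _ => locFin_zeroOn hd hGt x }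
  have hGc : Cyc.RatEquivZero δP (k + n) Gc := RatOn.ratEquivZero hGt
  let β' : AlgebraicCycle P ℤ := β - A.cycle hd hδ α N - Gc
  have hcyc : A.cycle hd hδ α N ∈ Cyc.Zk P δP (k + n) := by
    have := capIter_mem_Zk A.invertible hd (A.hasCoords.pullCycle_mem_Zk hd hδ hα) A.sec A.sec_ne_zero N
    rwa [show k + (N : ℤ) + n - N = k + n by ring] at this
  refine ⟨α, β', hα, fun x hx => ?_, fun x hx => ?_, fun x hx => ?hsupp, ?_⟩
  case hsupp =>
    by_contra hxT
    refine hx ?_
    have h1 : β x = 0 := by_contra fun h => hxT (hβT x h)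
    have h2 : A.cycle hd hδ α N x = 0 := by_contra fun h => hxT (hTcyc α N hN₀ hN x h)
    have h3 : Gc x = 0 := by
      by_contra h
      obtain ⟨-, ζ, hζ, hζx⟩ := exists_gen_of_zeroOn hGt (show Gt x ≠ 0 from h)
      exact hxT (hζx.mem_closed hTc hζ)
    simp only [β', Function.locallyFinsuppWithin.coe_sub, Pi.sub_apply, h1, h2, h3, sub_zero]
  · simp only [β', Function.locallyFinsuppWithin.coe_sub, Pi.sub_apply]
    rw [hβ x hx, hcyc x hx, show Gc x = 0 from by_contra fun h => hx (exists_gen_of_zeroOn hGt h).1]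
    ring
  · by_contra hle
    push Not at hle
    refine hx ?_
    simp only [β', Function.locallyFinsuppWithin.coe_sub, Pi.sub_apply]
    rw [(A.cycle_apply hd hδ hdX hα N hN).2 x hle]
    show β x - _ - (∑ᶠ w : Top, β w.1 * G w x) = 0
    have hval : ∀ w : Top, β w.1 * G w x = β w.1 * single w.1 x -
        (if p w.1 = p x then β w.1 * d w else 0) * (if (A.coords (p x)).IsEta (p x) N x then 1 else 0) := fun w => by
      have h := hF w x (by rw [w.2.2]; exact hle)
      by_cases hpw : p w.1 = p x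
      · rw [if_pos hpw]
        have e2 : ∀ ξ, ξ = p x →
            ((A.coords ξ).IsEta ξ N x ↔ (A.coords (p x)).IsEta (p x) N x) := fun ξ h => by rw [h]
        rw [if_congr (e2 _ hpw) rfl rfl] at h
        rw [h]; ring
      · rw [if_neg hpw, zero_mul, sub_zero]
        rw [if_neg fun hE => hpw (hE.apply_eq).symm, mul_zero, zero_add] at h
        rw [h]
    rw [finsum_congr hval]
    have hf1 : (Function.support fun w : Top => β w.1 * single w.1 x).Finite :=
      (hfin (p x)).subset fun w hw => by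
        by_contra h
        exact hw (by simp [single, show x ≠ w.1 from fun e => h (e ▸ rfl)])
    have hf2 : (Function.support fun w : Top => if p w.1 = p x then β w.1 * d w else 0).Finite :=
      (hfin (p x)).subset fun w hw => by_contra fun h => hw (if_neg h)
    rw [finsum_sub_distrib hf1 (hf2.subset fun w hw => left_ne_zero_of_mul hw), ← finsum_mul' _ _ hf2]
    have hs : (∑ᶠ w : Top, β w.1 * single w.1 x) = β x := by
      by_cases hb : β x ≠ 0 ∧ δ (p x) = k + N
      · rw [finsum_eq_single _ ⟨x, hb⟩ fun w hw => by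
          simp [single, show x ≠ w.1 from fun e => hw (Subtype.ext e.symm)]]
        simp [single]
      · have hb0 : β x = 0 := by
          by_contra h
          exact hb ⟨h, by have := htop x h; omega⟩
        rw [hb0, finsum_eq_zero_of_forall_eq_zero fun w => ?_]
        simp [single, show x ≠ w.1 from fun e => hb (e ▸ w.2)]
    rw [hs]
    show β x - (if (A.coords (p x)).IsEta (p x) N x then aF (p x) else 0) - (β x - aF (p x) * _) = 0
    split_ifs <;> ring
  · have h1 : Cyc.RatEquiv δP (k + n) (A.cycle hd hδ α N) (A.hasCoords.cl hd hδ N α) := by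
      have h := ratEquiv_capIter A.invertible hd (A.hasCoords.pullCycle_mem_Zk hd hδ hα) (β' := A.hasCoords.pullCycle hd hδ α)
        (RatOn.ratEquiv (T := Set.univ) (RatOn.congr (RatOn.zero _) fun x => sub_self _))
        A.sec (fun _ => A.hasCoords.sec 0) A.sec_ne_zero (fun _ => A.hasCoords.sec_ne_zero 0) N
      rw [show k + (N : ℤ) + n - N = k + n by ring, ← A.hasCoords.cl_eq] at h
      exact h
    rw [Cyc.RatEquiv] at h1 ⊢
    have := (ratZero hd (k + n)).add_mem (show Gc ∈ _ from hGc) (show _ ∈ ratZero hd (k + n) from h1)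
    rw [show β - (β' + A.hasCoords.cl hd hδ N α) = Gc + (A.cycle hd hδ α N - A.hasCoords.cl hd hδ N α) by simp only [β']; abel]
    exact this

include hd hδ hT in
/-- A cycle in `T` lives over points of large dimension. -/
theorem le_delta_of_mem (hi₀ : i₀ ≤ n) {k : ℤ} {β : AlgebraicCycle P ℤ} (hβ : β ∈ Cyc.Zk P δP (k + n))
    (hβT : ∀ x, β x ≠ 0 → x ∈ T) {x : P} (hx : β x ≠ 0) : k + i₀ ≤ δ (p x) := by
  have hmem := A.mem_nhd (p x)
  obtain ⟨η, hη⟩ := (A.coords (p x)).exists_isEta hmem hi₀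
  have h1 := CycLib.delta_le hd (hη.gen x hmem specializes_rfl ((hT _ x hmem).1 (hβT x hx)))
  have h2 := hη.delta_eq _ hmem hd hδ hi₀
  have h3 : δP x = k + n := by_contra fun h => hx (hβ x h)
  push_cast [Nat.cast_sub hi₀] at h2
  omega

include hdX hTc hT hTcyc in
/-- A cycle in `T` is a combination of the classes of index at least `i₀`. -/
theorem span {k : ℤ} (hi₀ : i₀ ≤ n) : ∀ (N : ℕ), N ≤ n + 1 → ∀ β : AlgebraicCycle P ℤ, β ∈ Cyc.Zk P δP (k + n) →
    (∀ x, β x ≠ 0 → x ∈ T) →
    (∀ x, β x ≠ 0 → δ (p x) < k + N) →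
    ∃ α : Fin (n + 1) → AlgebraicCycle X ℤ, (∀ i : Fin (n + 1), α i ∈ Cyc.Zk X δ (k + ((i : ℕ) : ℤ))) ∧
      (∀ i : Fin (n + 1), (i : ℕ) < i₀ → α i = 0) ∧
      Cyc.RatEquiv δP (k + n) β (∑ i : Fin (n + 1), A.hasCoords.cl hd hδ i (α i)) := by
  classical
  intro N
  induction N with
  | zero =>
    intro _ β hβ hβT hsupp
    refine ⟨fun _ => 0, fun _ _ _ => rfl, fun _ _ => rfl, ?_⟩
    have : β = 0 := by
      ext x
      by_contra h
      have h1 := hsupp x h
      have h2 := A.le_delta_of_mem hd hδ hT hi₀ hβ hβT h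
      simp only [Nat.cast_zero, add_zero] at h1
      omega
    rw [this, Finset.sum_eq_zero fun i _ => map_zero _]
    exact RatOn.ratEquiv (T := Set.univ) (RatOn.congr (RatOn.zero _) fun x => sub_self _)
  | succ N ih =>
    intro hN β hβ hβT hsupp
    rcases Nat.lt_or_ge N i₀ with hlt | hN₀
    · exact ih (by omega) β hβ hβT fun x hx => by
        have := A.le_delta_of_mem hd hδ hT hi₀ hβ hβT hx
        have := hsupp x hx
        push_cast at this
        omega
    obtain ⟨a, β', ha, hβ', hsupp', hβT', he⟩ := A.span_step hd hdX hδ hTc hT hTcyc (N := N) (by omega) hN₀ hβ hβT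
      fun x hx => by have := hsupp x hx; push_cast at this; omega
    obtain ⟨α, hα, hα₀, he'⟩ := ih (by omega) β' hβ' hβT' hsupp'
    let e : Fin (n + 1) := ⟨N, by omega⟩
    refine ⟨fun i => α i + if i = e then a else 0, fun i x hx => ?_, fun i hi => ?_, ?_⟩
    · rw [Function.locallyFinsuppWithin.coe_add, Pi.add_apply, hα i x hx, zero_add]
      split_ifs with hi
      · subst hi; exact ha x hx
      · rfl
    · show α i + (if i = e then a else 0) = 0
      rw [hα₀ i hi, if_neg fun h => absurd hi (by subst h; exact not_lt.2 hN₀), add_zero]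
    · simp only [map_add, Finset.sum_add_distrib]
      rw [Finset.sum_eq_single e (f := fun i : Fin (n + 1) => A.hasCoords.cl hd hδ (i : ℕ) (if i = e then a else 0))
        (fun i _ hi => by simp only [if_neg hi, map_zero]) (fun h => absurd (Finset.mem_univ _) h), if_pos rfl]
      rw [Cyc.RatEquiv] at he he' ⊢
      have h := (ratZero hd (k + n)).add_mem (show _ ∈ ratZero hd (k + n) from he)
        (show _ ∈ ratZero hd (k + n) from he')
      rw [show β - (∑ i : Fin (n + 1), A.hasCoords.cl hd hδ i (α i) + A.hasCoords.cl hd hδ (e : ℕ) a) =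
        β - (β' + A.hasCoords.cl hd hδ N a) + (β' - ∑ i : Fin (n + 1), A.hasCoords.cl hd hδ i (α i)) by abel_nf; rfl]
      exact h

end Atlas

namespace HasCoords

variable (hP : HasCoords p O1 n) [IsLocallyNoetherian X] [IsLocallyNoetherian P] [IsProper p]
  {δP : P → ℤ} {δ : X → ℤ} (hd : Cyc.IsDimFun P δP) (hdX : Cyc.IsDimFun X δ) (hδ : Cyc.DeltaCompat p δP δ)

include hP hdX in
theorem span {k : ℤ} (N : ℕ) (hN : N ≤ n + 1) (β : AlgebraicCycle P ℤ) (hβ : β ∈ Cyc.Zk P δP (k + n))
    (hsupp : ∀ x, β x ≠ 0 → δ (p x) < k + N) :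
    ∃ α : Fin (n + 1) → AlgebraicCycle X ℤ, (∀ i : Fin (n + 1), α i ∈ Cyc.Zk X δ (k + ((i : ℕ) : ℤ))) ∧
      Cyc.RatEquiv δP (k + n) β (∑ i : Fin (n + 1), hP.cl hd hδ i (α i)) := by
  obtain ⟨α, hα, -, he⟩ := hP.atlas.span hd hdX hδ (T := Set.univ) (i₀ := 0) isClosed_univ
    (fun x z _ => ⟨fun _ _ l hl => absurd hl (Nat.not_lt_zero _), fun _ => trivial⟩) (fun _ _ _ _ _ _ => trivial)
    (Nat.zero_le n) N hN β hβ (fun _ _ => trivial) hsupp
  exact ⟨α, hα, he⟩

end HasCoords

end Groth.Agent.H23.ProjBd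

end
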