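import Mathlib.RingTheory.MvPolynomial.Basic
import Mathlib.RingTheory.Polynomial.Basic
import Mathlib.RingTheory.Filtration
import Mathlib.RingTheory.Ideal.Quotient.Operations
import Mathlib.RingTheory.Ideal.Quotient.Noetherian

/-! Primes `(𝔭, X_S)` of polynomial rings. -/

set_option autoImplicit false

universe u

open MvPolynomial

noncomputable section

namespace Groth.Agent.H23.ProjBd

variable {A : Type u} [CommRing A] {σ : Type}

open Classical in
/-- Setting the variables in `S` to zero. -/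
def kill (S : Set σ) : MvPolynomial σ A →ₐ[A] MvPolynomial σ A :=
  aeval fun i => if i ∈ S then 0 else MvPolynomial.X i

theorem sub_kill_mem (S : Set σ) (f : MvPolynomial σ A) :
    f - kill S f ∈ Ideal.span ((MvPolynomial.X : σ → MvPolynomial σ A) '' S) := by
  classical
  let m := Ideal.Quotient.mkₐ A (Ideal.span ((MvPolynomial.X : σ → MvPolynomial σ A) '' S))
  have h : m.comp (kill S) = m := MvPolynomial.algHom_ext fun i => by
    rw [AlgHom.comp_apply, kill, aeval_X]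
    split_ifs with hi
    · rw [map_zero]
      exact (Ideal.Quotient.eq_zero_iff_mem.2 (Ideal.subset_span (Set.mem_image_of_mem _ hi))).symm
    · rfl
  exact Ideal.Quotient.eq.1 (congrArg (fun φ => φ f) h).symm

/-- The ideal `(𝔭, X_S)`. -/
def J (𝔭 : Ideal A) (S : Set σ) : Ideal (MvPolynomial σ A) :=
  Ideal.comap (kill S) (𝔭.map (C : A →+* MvPolynomial σ A))

variable {𝔭 : Ideal A} {S : Set σ}

theorem C_mem_J {a : A} (ha : a ∈ 𝔭) : C a ∈ J 𝔭 S := by
  show kill S (C a) ∈ 𝔭.map (C : A →+* MvPolynomial σ A)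
  rw [kill, aeval_C]
  exact Ideal.mem_map_of_mem _ ha

theorem X_mem_J {i : σ} (hi : i ∈ S) : MvPolynomial.X i ∈ J 𝔭 S := by
  classical
  show kill S (MvPolynomial.X i) ∈ 𝔭.map (C : A →+* MvPolynomial σ A)
  rw [kill, aeval_X, if_pos hi]
  exact zero_mem _

theorem J_eq : J 𝔭 S = 𝔭.map C ⊔ Ideal.span ((MvPolynomial.X : σ → MvPolynomial σ A) '' S) := by
  refine le_antisymm (fun f hf => ?_) (sup_le (Ideal.map_le_iff_le_comap.2 fun a ha => C_mem_J ha) ?_)
  · rw [show f = kill S f + (f - kill S f) by ring]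
    exact add_mem (Ideal.mem_sup_left hf) (Ideal.mem_sup_right (sub_kill_mem S f))
  · rw [Ideal.span_le]
    rintro _ ⟨i, hi, rfl⟩
    exact X_mem_J hi

theorem J_le {Q : Ideal (MvPolynomial σ A)} (h1 : ∀ a ∈ 𝔭, C a ∈ Q) (h2 : ∀ i ∈ S, MvPolynomial.X i ∈ Q) :
    J 𝔭 S ≤ Q := by
  rw [J_eq]
  refine sup_le (Ideal.map_le_iff_le_comap.2 h1) (Ideal.span_le.2 ?_)
  rintro _ ⟨i, hi, rfl⟩
  exact h2 i hi

theorem J_mono {T : Set σ} (h : S ⊆ T) : J 𝔭 S ≤ J 𝔭 T :=
  J_le (fun _ ha => C_mem_J ha) fun _ hi => X_mem_J (h hi)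

theorem J_empty : J 𝔭 (∅ : Set σ) = 𝔭.map C := by
  rw [J_eq, Set.image_empty, Ideal.span_empty, sup_bot_eq]

theorem J_insert (i : σ) : J 𝔭 (insert i S) = J 𝔭 S ⊔ Ideal.span {MvPolynomial.X i} := by
  rw [J_eq, J_eq, Set.image_insert_eq, Ideal.span_insert, sup_assoc, sup_comm (Ideal.span {_})]

variable [𝔭.IsPrime]

instance isPrime_J : (J 𝔭 S).IsPrime := by
  haveI : (𝔭.map (C : A →+* MvPolynomial σ A)).IsPrime := by
    have := RingHom.ker_isPrime (MvPolynomial.map (σ := σ) (Ideal.Quotient.mk 𝔭))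
    rwa [MvPolynomial.ker_map, Ideal.mk_ker] at this
  exact Ideal.IsPrime.comap _

theorem comap_C_J : (J 𝔭 S).comap C = 𝔭 := by
  ext a
  show kill S (C a) ∈ 𝔭.map (C : A →+* MvPolynomial σ A) ↔ _
  rw [kill, aeval_C, MvPolynomial.algebraMap_eq, MvPolynomial.mem_map_C_iff]
  refine ⟨fun h => by simpa using h 0, fun h m => ?_⟩
  classical
  rw [coeff_C]
  split_ifs
  · exact h
  · exact zero_mem _

theorem X_mem_J_iff (i : σ) : MvPolynomial.X i ∈ J 𝔭 S ↔ i ∈ S := by
  classical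
  refine ⟨fun h => by_contra fun hi => ?_, X_mem_J⟩
  have h' : kill S (MvPolynomial.X i) ∈ 𝔭.map (C : A →+* MvPolynomial σ A) := h
  rw [kill, aeval_X, if_neg hi, MvPolynomial.mem_map_C_iff] at h'
  have h1 := h' (Finsupp.single i 1)
  rw [coeff_X, if_pos rfl] at h1
  exact (Ideal.IsPrime.ne_top inferInstance) ((Ideal.eq_top_iff_one 𝔭).2 h1)

/-- No primes strictly between `(𝔭, X_S)` and `(𝔭, X_S, X_i)`. -/
theorem eq_or_eq_of_between [IsNoetherianRing A] [Finite σ] {i : σ} {q : Ideal (MvPolynomial σ A)} [q.IsPrime]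
    (h1 : J 𝔭 S ≤ q) (h2 : q ≤ J 𝔭 (insert i S)) : q = J 𝔭 S ∨ q = J 𝔭 (insert i S) := by
  by_cases hi : MvPolynomial.X i ∈ q
  · exact Or.inr (h2.antisymm (J_le (fun a ha => h1 (C_mem_J ha)) (Set.forall_mem_insert.2
      ⟨hi, fun l hl => h1 (X_mem_J hl)⟩)))
  refine Or.inl (le_antisymm ?_ h1)
  let mk := Ideal.Quotient.mk (J 𝔭 S)
  let I : Ideal (MvPolynomial σ A ⧸ J 𝔭 S) := Ideal.span {mk (MvPolynomial.X i)}
  have hI : I ≠ ⊤ := fun h => by
    have h' : J 𝔭 (insert i S) = ⊤ := by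
      rw [J_insert, sup_comm, ← Ideal.mk_ker (I := J 𝔭 S),
        ← Ideal.comap_map_of_surjective' mk Ideal.Quotient.mk_surjective, Ideal.map_span, Set.image_singleton]
      rw [show Ideal.span {mk (MvPolynomial.X i)} = ⊤ from h, Ideal.comap_top]
    exact Ideal.IsPrime.ne_top inferInstance h'
  have key : ∀ f ∈ q, ∃ g ∈ q, mk f = mk (MvPolynomial.X i) * mk g := by
    intro f hf
    have h3 := h2 hf
    rw [J_insert, Submodule.mem_sup] at h3
    obtain ⟨a, ha, b, hb, rfl⟩ := h3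
    obtain ⟨g, rfl⟩ := Ideal.mem_span_singleton'.1 hb
    refine ⟨g, ((Ideal.IsPrime.mem_or_mem inferInstance ((Submodule.add_mem_iff_right q (h1 ha)).1 hf))).resolve_right hi, ?_⟩
    rw [map_add, map_mul, show mk a = 0 from Ideal.Quotient.eq_zero_iff_mem.2 ha, zero_add, mul_comm]
  have hpow : ∀ (m : ℕ), ∀ f ∈ q, mk f ∈ I ^ m := by
    intro m
    induction m with
    | zero => intro f _; rw [Submodule.pow_zero, Ideal.one_eq_top]; trivial
    | succ m ih =>
      intro f hf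
      obtain ⟨g, hg, e⟩ := key f hf
      rw [e, Submodule.pow_succ, mul_comm (mk (MvPolynomial.X i))]
      exact Ideal.mul_mem_mul (ih g hg) (Ideal.mem_span_singleton_self _)
  haveI : IsNoetherianRing (MvPolynomial σ A) := MvPolynomial.isNoetherianRing
  haveI : IsNoetherianRing (MvPolynomial σ A ⧸ J 𝔭 S) := inferInstance
  intro f hf
  refine Ideal.Quotient.eq_zero_iff_mem.1 ?_
  have h0 : mk f ∈ ⨅ m, I ^ m := Ideal.mem_iInf.2 fun m => hpow m f hf
  rwa [Ideal.iInf_pow_eq_bot_of_isDomain I hI, Ideal.mem_bot] at h0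

end Groth.Agent.H23.ProjBd

end
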