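import Groth.Agent.H23.ProjBd.Coords
import Groth.Agent.H23.ProjBd.CoordAlg
import Mathlib.AlgebraicGeometry.Noetherian

/-!
The generic points of the linear subspaces `s_0 = ⋯ = s_{i-1} = 0` of a fibre of a projective bundle.
-/

set_option autoImplicit false
set_option backward.isDefEq.respectTransparency false
set_option backward.isDefEq.respectTransparency.types false

universe u

open CategoryTheory AlgebraicGeometry TopologicalSpace Opposite MvPolynomial

noncomputable section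

namespace Groth.Agent.H23.ProjBd.Coords

open Groth.Agent Groth.Agent.AModX RatSec

variable {X P : Scheme.{u}} {p : P ⟶ X} {O1 : P.Modules} {n : ℕ} {U : X.Opens} (c : Coords p O1 n U)

/-- The variables of the chart `j` killed on the `i`-th linear subspace. -/
def Sset (j : Fin (n + 1)) (i : ℕ) : Set (Fin n) := {l | (j.succAbove l : ℕ) < i}

theorem Sset_succ {j : Fin (n + 1)} {i : ℕ} {l : Fin n} (hl : (j.succAbove l : ℕ) = i) :
    Sset j (i + 1) = insert l (Sset j i) := by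
  ext k
  show (j.succAbove k : ℕ) < i + 1 ↔ k = l ∨ (j.succAbove k : ℕ) < i
  refine ⟨fun h => ?_, fun h => ?_⟩
  · rcases Nat.lt_succ_iff_lt_or_eq.1 h with h | h
    · exact Or.inr h
    · exact Or.inl (Fin.succAbove_right_injective (Fin.val_injective (h.trans hl.symm)))
  · rcases h with rfl | h
    · omega
    · omega

/-- Vanishing of the first `i` coordinates. -/
def Vanish (i : ℕ) (z : P) : Prop := ∀ hz : p z ∈ U, ∀ l : Fin (n + 1), (l : ℕ) < i → c.cs l z hz = 0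

theorem le_of_vanish {i : ℕ} {z : P} {j : Fin (n + 1)} (hz : z ∈ c.W j) (h : c.Vanish i z) : i ≤ j :=
  not_lt.1 fun hlt => c.cs_self_ne_zero j z hz (h (c.le j hz) j hlt)

variable {ξ : X} (hξ : ξ ∈ U)

/-- The prime of a point of `U`. -/
abbrev pU : Ideal Γ(X, U) := (c.isAffine.primeIdealOf ⟨ξ, hξ⟩).asIdeal

theorem J_le_pr {i : ℕ} {z : P} {j : Fin (n + 1)} (hz : z ∈ c.W j) (hsp : ξ ⤳ p z) (h : c.Vanish i z) :
    J (c.pU hξ) (Sset j i) ≤ c.pr j z hz := by
  refine J_le (fun a ha => ?_) fun l hl => ?_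
  · rw [C_mem_pr_iff]
    exact (specializes_iff_prime c.isAffine hξ (c.le j hz)).1 hsp ha
  · rw [X_mem_pr_iff]
    exact h (c.le j hz) _ hl

theorem vanish_of_J_le {i : ℕ} {z : P} {j : Fin (n + 1)} (hij : i ≤ j) (hz : z ∈ c.W j)
    (h : J (c.pU hξ) (Sset j i) ≤ c.pr j z hz) : c.Vanish i z := by
  intro hz' l hl
  have hne : l ≠ j := fun e => absurd (e ▸ hl) (not_lt.2 hij)
  obtain ⟨k, rfl⟩ := Fin.exists_succAbove_eq hne
  exact (c.X_mem_pr_iff j k z hz).1 (h (X_mem_J hl))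

/-- The generic point of the `i`-th linear subspace of the fibre over `ξ`. -/
structure IsEta (ξ : X) (i : ℕ) (η : P) : Prop where
  apply_eq : p η = ξ
  vanish : c.Vanish i η
  gen : ∀ z : P, p z ∈ U → ξ ⤳ p z → c.Vanish i z → η ⤳ z

theorem mem_W_of_pr_eq {i : ℕ} {z : P} {j j' : Fin (n + 1)} (hij : i ≤ j') (hz : z ∈ c.W j)
    (h : c.pr j z hz = J (c.pU hξ) (Sset j i)) : z ∈ c.W j' := by
  rcases eq_or_ne j' j with rfl | hne
  · exact hz
  obtain ⟨k, rfl⟩ := Fin.exists_succAbove_eq hne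
  rw [c.mem_W_iff _ z (c.le j hz), c.cs_succAbove_ne_zero_iff j k z hz, h, X_mem_J_iff]
  show ¬ ((j.succAbove k : ℕ) < i)
  omega

theorem isEta_of_pr_eq {i : ℕ} {z : P} {j : Fin (n + 1)} (hij : i ≤ j) (hz : z ∈ c.W j)
    (h : c.pr j z hz = J (c.pU hξ) (Sset j i)) : c.IsEta ξ i z where
  apply_eq := by rw [c.apply_eq_iff j hz hξ, h, comap_C_J]
  vanish := c.vanish_of_J_le hξ hij hz h.ge
  gen w hw hsp hv := by
    obtain ⟨j', hwj⟩ := c.cover w hw
    have hij' := c.le_of_vanish hwj hv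
    obtain ⟨z', hz', h'⟩ := c.exists_point j' (J (c.pU hξ) (Sset j' i))
    have h1 : z' ⤳ w := (c.specializes_iff j' hz' hwj).2 (h'.le.trans (c.J_le_pr hξ hwj hsp hv))
    have hz'j := c.mem_W_of_pr_eq hξ hij hz' h'
    have h2 : z ⤳ z' := by
      rw [c.specializes_iff j hz hz'j, h]
      refine c.J_le_pr hξ hz'j (specializes_of_eq ?_) (c.vanish_of_J_le hξ hij' hz' h'.ge)
      exact ((c.apply_eq_iff j' hz' hξ).2 (by rw [h', comap_C_J])).symm
    exact h2.trans h1

include hξ in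
theorem exists_isEta {i : ℕ} (hi : i ≤ n) : ∃ η, c.IsEta ξ i η := by
  obtain ⟨z, hz, h⟩ := c.exists_point (Fin.last n) (J (c.pU hξ) (Sset (Fin.last n) i))
  exact ⟨z, c.isEta_of_pr_eq hξ (by simpa using hi) hz h⟩

theorem IsEta.mem {i : ℕ} {η : P} (h : c.IsEta ξ i η) : p η ∈ U ↔ ξ ∈ U := by rw [h.apply_eq]

include hξ in
theorem IsEta.unique {i : ℕ} {η η' : P} (h : c.IsEta ξ i η) (h' : c.IsEta ξ i η') : η = η' :=
  ((h.gen η' ((h'.mem c).2 hξ) (specializes_of_eq h'.apply_eq.symm) h'.vanish).antisymm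
    (h'.gen η ((h.mem c).2 hξ) (specializes_of_eq h.apply_eq.symm) h.vanish)).eq

theorem IsEta.mem_W {i : ℕ} {η : P} (h : c.IsEta ξ i η) {j : Fin (n + 1)} (hij : i ≤ j)
    (hξ : ξ ∈ U) : ∃ hz : η ∈ c.W j, c.pr j η hz = J (c.pU hξ) (Sset j i) := by
  obtain ⟨z, hz, e⟩ := c.exists_point j (J (c.pU hξ) (Sset j i))
  obtain rfl := h.unique c hξ (c.isEta_of_pr_eq hξ hij hz e)
  exact ⟨hz, e⟩

theorem IsEta.specializes_succ {i : ℕ} {η η' : P} (hξ : ξ ∈ U) (h : c.IsEta ξ i η)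
    (h' : c.IsEta ξ (i + 1) η') : η ⤳ η' :=
  h.gen η' ((h'.mem c).2 hξ) (specializes_of_eq h'.apply_eq.symm) fun hz l hl => h'.vanish hz l (by omega)

variable [IsLocallyNoetherian X] {δP : P → ℤ} {δ : X → ℤ}

include hξ in
theorem IsEta.delta_succ (hd : Cyc.IsDimFun P δP) {i : ℕ} (hi : i < n) {η η' : P}
    (h : c.IsEta ξ i η) (h' : c.IsEta ξ (i + 1) η') : δP η = δP η' + 1 ∧ η ≠ η' := by
  haveI : IsNoetherianRing Γ(X, U) := IsLocallyNoetherian.component_noetherian ⟨U, c.isAffine⟩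
  obtain ⟨hz, e⟩ := h.mem_W c (j := Fin.last n) (by simp; omega) hξ
  obtain ⟨hz', e'⟩ := h'.mem_W c (j := Fin.last n) (by simp; omega) hξ
  let l : Fin n := ⟨i, hi⟩
  have hl : ((Fin.last n).succAbove l : ℕ) = i := by simp [l]
  rw [Sset_succ hl] at e'
  have hne : η ≠ η' := fun he => by
    subst he
    have := (X_mem_J (𝔭 := c.pU hξ) (Set.mem_insert l (Sset (Fin.last n) i)))
    rw [← e', e, X_mem_J_iff] at this
    exact absurd (show ((Fin.last n).succAbove l : ℕ) < i from this) (by omega)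
  refine ⟨(hd η η' (h.specializes_succ c hξ h') hne).2 fun w hw hw' => ?_, hne⟩
  have hwW : w ∈ c.W (Fin.last n) := hw'.mem_open (c.W _).2 hz'
  have h1 : J (c.pU hξ) (Sset (Fin.last n) i) ≤ c.pr _ w hwW := e ▸ (c.specializes_iff _ hz hwW).1 hw
  have h2 : c.pr _ w hwW ≤ J (c.pU hξ) (insert l (Sset (Fin.last n) i)) :=
    e' ▸ (c.specializes_iff _ hwW hz').1 hw'
  rcases eq_or_eq_of_between h1 h2 with h3 | h3
  · exact Or.inl (c.eq_of_pr_eq _ hwW hz (h3.trans e.symm))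
  · exact Or.inr (c.eq_of_pr_eq _ hwW hz' (h3.trans e'.symm))

include hξ in
theorem IsEta.residueFieldMap_surjective {η : P} (h : c.IsEta ξ n η) :
    Function.Surjective (p.residueFieldMap η) := by
  obtain ⟨hz, e⟩ := h.mem_W c (j := Fin.last n) (by simp) hξ
  intro a
  obtain ⟨f, g, hg, rfl⟩ := c.exists_ev_div _ η hz a
  have hC : ∀ f : MvPolynomial (Fin n) Γ(X, U), c.ev _ η hz f =
      p.residueFieldMap η (X.evaluation U (p η) (c.le _ hz) (constantCoeff f)) := by
    intro f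
    rw [← c.ev_C]
    have : (c.ev _ η hz) = (c.ev _ η hz).comp (C.comp constantCoeff) := by
      refine MvPolynomial.ringHom_ext (fun a => by simp) fun k => ?_
      have hk : MvPolynomial.X k ∈ c.pr _ η hz := by
        rw [e, X_mem_J_iff]
        show ((Fin.last n).succAbove k : ℕ) < n
        simp
      simpa using (show c.ev _ η hz (MvPolynomial.X k) = 0 from hk)
    exact DFunLike.congr_fun this f
  exact ⟨_, (map_div₀ (p.residueFieldMap η).hom _ _).trans (congrArg₂ (· / ·) (hC f).symm (hC g).symm)⟩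

end Groth.Agent.H23.ProjBd.Coords

end
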