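import Groth.Agent.H23.C1Desc
import Groth.Agent.H23.C1Cycle

/-! Iterated first Chern class caps of cycles and their behaviour under rational equivalence. -/

set_option autoImplicit false

universe u

open AlgebraicGeometry CategoryTheory

noncomputable section

namespace Groth.Agent.H23.ProjBd

open Groth.Agent RatSec

variable {X : Scheme.{u}} {δ : X → ℤ} {L : X.Modules} [IsLocallyNoetherian X]
  (hL : PicF.IsInvertible L) (hd : Cyc.IsDimFun X δ)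

include hL hd in
theorem cap_mem_Zk {α : X → ℤ} {k : ℤ} (hα : ∀ ξ, δ ξ ≠ k + 1 → α ξ = 0) (s : (ξ : X) → Cyc.secFibre L ξ)
    {x : X} (hx : δ x ≠ k) : Cyc.c1CapFun δ L α s x = 0 := by
  refine finsum_eq_zero_of_forall_eq_zero fun ξ => ?_
  by_cases h : ξ ⤳ x ∧ δ x + 1 = δ ξ
  · rw [hα ξ (by omega), zero_mul]
  · rw [Cyc.secDivFun, dif_neg h, mul_zero]

omit [IsLocallyNoetherian X] in
theorem exists_sec_ne_zero (hL : PicF.IsInvertible L) (ξ : X) : ∃ s : Cyc.secFibre L ξ, s ≠ 0 := by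
  obtain ⟨g, hg, -⟩ := exists_gen hL ξ
  exact ⟨(1 : X.presheaf.stalk ξ) • cls L ξ g, (residue_ne_zero hg).1 (by rw [map_one]; exact one_ne_zero)⟩

include hL hd in
theorem cap_sub (α β : AlgebraicCycle X ℤ) (s : (ξ : X) → Cyc.secFibre L ξ) (x : X) :
    Cyc.c1CapFun δ L ⇑(α - β) s x = Cyc.c1CapFun δ L ⇑α s x - Cyc.c1CapFun δ L ⇑β s x := by
  have hf : ∀ γ : AlgebraicCycle X ℤ, ∀ z : X, ∃ U ∈ nhds z, (U ∩ Function.support ⇑γ).Finite :=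
    fun γ z => γ.supportLocallyFiniteWithinDomain' z trivial
  simp only [Cyc.c1CapFun]
  rw [← finsum_sub_distrib (finite_support_c1Cap (hf α) s x) (finite_support_c1Cap (hf β) s x)]
  exact finsum_congr fun ξ => by rw [Function.locallyFinsuppWithin.coe_sub, Pi.sub_apply, sub_mul]

include hL hd in
theorem ratEquiv_cap {k : ℤ} {α β : AlgebraicCycle X ℤ} (hα : α ∈ Cyc.Zk X δ (k + 1))
    (h : Cyc.RatEquiv δ (k + 1) α β) {s t : (ξ : X) → Cyc.secFibre L ξ} (hs : ∀ ξ, s ξ ≠ 0) (ht : ∀ ξ, t ξ ≠ 0)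
    {γ γ' : AlgebraicCycle X ℤ} (hγ : ⇑γ = Cyc.c1CapFun δ L ⇑α s) (hγ' : ⇑γ' = Cyc.c1CapFun δ L ⇑β t) :
    Cyc.RatEquiv δ k γ γ' := by
  have h1 : Cyc.RatEquiv δ k γ (c1CapCycle hL hd α t ht) :=
    ratEquiv_c1Cap hL hd hα (fun z => α.supportLocallyFiniteWithinDomain' z trivial) hs ht hγ rfl
  refine RatOn.trans hd h1 (RatOn.ratEquiv (T := Set.univ) ?_)
  refine RatOn.congr (C1Desc.zeroOn_c1Cap hL hd (RatOn.of_ratEquivZero h) ht (T := Set.univ)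
    fun ξ ζ _ _ _ h => absurd trivial h) fun x => ?_
  rw [cap_sub hL hd, coe_c1CapCycle, hγ']

/-- The iterated cap as a cycle. -/
def capIter (β : AlgebraicCycle X ℤ) (t : ℕ → (ξ : X) → Cyc.secFibre L ξ) (ht : ∀ i ξ, t i ξ ≠ 0) :
    ℕ → AlgebraicCycle X ℤ
  | 0 => β
  | i + 1 => c1CapCycle hL hd (capIter β t ht i) (t i) (ht i)

theorem eq_capIter (β : AlgebraicCycle X ℤ) (t : ℕ → (ξ : X) → Cyc.secFibre L ξ) (ht : ∀ i ξ, t i ξ ≠ 0)
    {γ : ℕ → X → ℤ} (h0 : γ 0 = ⇑β) (hs : ∀ i, γ (i + 1) = Cyc.c1CapFun δ L (γ i) (t i)) :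
    ∀ i, γ i = ⇑(capIter hL hd β t ht i)
  | 0 => h0
  | i + 1 => by rw [hs i, eq_capIter β t ht h0 hs i]; rfl

theorem capIter_mem_Zk {β : AlgebraicCycle X ℤ} {k : ℤ} (hβ : β ∈ Cyc.Zk X δ k)
    (t : ℕ → (ξ : X) → Cyc.secFibre L ξ) (ht : ∀ i ξ, t i ξ ≠ 0) :
    ∀ i : ℕ, capIter hL hd β t ht i ∈ Cyc.Zk X δ (k - i)
  | 0 => by simpa [capIter] using hβ
  | i + 1 => fun x hx => cap_mem_Zk hL hd
      (fun ξ hξ => capIter_mem_Zk hβ t ht i ξ (by push_cast at hξ ⊢; omega)) (t i) hx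

theorem ratEquiv_capIter {β β' : AlgebraicCycle X ℤ} {k : ℤ} (hβ : β ∈ Cyc.Zk X δ k)
    (h : Cyc.RatEquiv δ k β β') (t t' : ℕ → (ξ : X) → Cyc.secFibre L ξ) (ht : ∀ i ξ, t i ξ ≠ 0)
    (ht' : ∀ i ξ, t' i ξ ≠ 0) :
    ∀ i : ℕ, Cyc.RatEquiv δ (k - i) (capIter hL hd β t ht i) (capIter hL hd β' t' ht' i)
  | 0 => by simpa [capIter] using h
  | i + 1 => by
    have e : k - ((i + 1 : ℕ) : ℤ) + 1 = k - i := by push_cast; ring
    refine ratEquiv_cap hL hd (s := t i) (t := t' i) ?_ ?_ (ht i) (ht' i) rfl rfl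
    · rw [e]; exact capIter_mem_Zk hL hd hβ t ht i
    · rw [e]; exact ratEquiv_capIter hβ h t t' ht ht' i

end Groth.Agent.H23.ProjBd

end
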