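import Groth.Agent.H23.ProjBd.Eta
import Groth.Agent.H23.C1Pull

/-!
Flat pull-back of a point and divisors of coordinate sections on a projective bundle.
-/

set_option autoImplicit false
set_option backward.isDefEq.respectTransparency false
set_option backward.isDefEq.respectTransparency.types false

universe u

open CategoryTheory AlgebraicGeometry TopologicalSpace Opposite MvPolynomial

noncomputable section

namespace Groth.Agent.H23.ProjBd.Coords

open Groth.Agent Groth.Agent.AModX RatSec FlatShift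

variable {X P : Scheme.{u}} {p : P ⟶ X} {O1 : P.Modules} {n : ℕ} {U : X.Opens} (c : Coords p O1 n U)
variable {ξ : X} (hξ : ξ ∈ U) [IsLocallyNoetherian X] {δP : P → ℤ} {δ : X → ℤ}

include hξ in
theorem IsEta.delta_eq (hd : Cyc.IsDimFun P δP) (hδ : Cyc.DeltaCompat p δP δ) :
    ∀ {i : ℕ}, i ≤ n → ∀ {η : P}, c.IsEta ξ i η → δP η = δ ξ + (n - i : ℕ) := by
  intro i hi
  induction hk : n - i generalizing i with
  | zero =>
    intro η h
    obtain rfl : i = n := by omega
    obtain ⟨m, hm, he⟩ := hδ η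
    letI := (p.residueFieldMap η).hom.toAlgebra
    haveI : Module.Finite (X.residueField (p η)) (P.residueField η) :=
      Module.Finite.of_surjective (Algebra.linearMap (X.residueField (p η)) (P.residueField η))
        (h.residueFieldMap_surjective c hξ)
    have h0 : Algebra.trdeg (X.residueField (p η)) (P.residueField η) = 0 := trdeg_eq_zero
    have hm' : (m : Cardinal) = 0 := hm.symm.trans h0
    rw [he, h.apply_eq, show m = 0 by exact_mod_cast hm']
  | succ k ih =>
    intro η h
    obtain ⟨η', h'⟩ := c.exists_isEta hξ (show i + 1 ≤ n by omega)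
    have h1 := ih (i := i + 1) (by omega) (by omega) h'
    have h2 := (h.delta_succ c hξ hd (by omega) h').1
    push_cast at *
    omega

include hξ in
theorem IsEta.residueDegree_eq_one {η : P} (h : c.IsEta ξ n η) : p.residueDegree η = 1 := by
  letI := (p.residueFieldMap η).hom.toAlgebra
  show Module.finrank (X.residueField (p η)) (P.residueField η) = 1
  have hb : Function.Bijective (algebraMap (X.residueField (p η)) (P.residueField η)) :=
    ⟨(p.residueFieldMap η).hom.injective, h.residueFieldMap_surjective c hξ⟩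
  rw [← (LinearEquiv.ofBijective (Algebra.linearMap (X.residueField (p η)) (P.residueField η)) hb).finrank_eq,
    Module.finrank_self]

include hξ in
theorem IsEta.eq_of_delta (hd : Cyc.IsDimFun P δP) (hδ : Cyc.DeltaCompat p δP δ) {η z : P}
    (h : c.IsEta ξ 0 η) (hz : p z = ξ) : δP z ≤ δ ξ + n ∧ (δP z = δ ξ + n → z = η) := by
  have hsp : η ⤳ z := h.gen z (by rw [hz]; exact hξ) (specializes_of_eq hz.symm) fun _ l hl => absurd hl (by omega)
  have hη : δP η = δ ξ + n := by simpa using h.delta_eq c hξ hd hδ (Nat.zero_le n)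
  exact ⟨hη ▸ CycLib.delta_le hd hsp, fun e => (CycLib.eq_of_delta_le hd hsp (by omega)).symm⟩

include hξ in
theorem IsEta.fibMax_iff (hd : Cyc.IsDimFun P δP) (hδ : Cyc.DeltaCompat p δP δ) {η z : P}
    (h : c.IsEta ξ 0 η) (hz : p z = ξ) (hmax : ∀ y, p y = p z → y ⤳ z → y = z) : z = η :=
  (hmax η (h.apply_eq.trans hz.symm)
    (h.gen z (by rw [hz]; exact hξ) (specializes_of_eq hz.symm) fun _ l hl => absurd hl (by omega))).symm

include hξ in
theorem IsEta.fibreLen_eq_one {η : P} (h : c.IsEta ξ 0 η) :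
    Module.length (P.presheaf.stalk η) (P.presheaf.stalk η ⧸ Ideal.map (p.stalkMap η).hom
      (IsLocalRing.maximalIdeal (X.presheaf.stalk (p η)))) = 1 := by
  obtain ⟨hz, e⟩ := h.mem_W c (j := Fin.last n) (Nat.zero_le _) hξ
  rw [show Sset (Fin.last n) 0 = (∅ : Set (Fin n)) from Set.eq_empty_of_forall_notMem fun l => Nat.not_lt_zero _,
    J_empty] at e
  have hmax : Ideal.map (p.stalkMap η).hom (IsLocalRing.maximalIdeal (X.presheaf.stalk (p η))) =
      IsLocalRing.maximalIdeal (P.presheaf.stalk η) := by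
    refine le_antisymm (Ideal.map_le_iff_le_comap.2 fun a ha => ?_) ?_
    · exact map_nonunit (p.stalkMap η).hom a ha
    letI := P.presheaf.algebra_section_stalk ⟨η, hz⟩
    haveI := (c.affine (Fin.last n)).isLocalization_stalk ⟨η, hz⟩
    rw [← IsLocalization.AtPrime.map_eq_maximalIdeal ((c.affine (Fin.last n)).primeIdealOf ⟨η, hz⟩).asIdeal
      (P.presheaf.stalk η), Ideal.map_le_iff_le_comap]
    intro g hg
    obtain ⟨f, rfl⟩ := (c.bij _).2 g
    have hf : f ∈ (c.pU hξ).map C := e ▸ ((c.pr_eq_comap _ η hz).symm ▸ hg : f ∈ c.pr _ η hz)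
    have hC : (c.pU hξ).map C ≤ (Ideal.map (p.stalkMap η).hom (IsLocalRing.maximalIdeal (X.presheaf.stalk (p η)))).comap
        ((algebraMap Γ(P, c.W (Fin.last n)) (P.presheaf.stalk η)).comp (c.ψ (Fin.last n))) := by
      refine Ideal.map_le_iff_le_comap.2 fun a ha => ?_
      show P.presheaf.germ (c.W (Fin.last n)) η hz (c.ψ _ (C a)) ∈
        Ideal.map (p.stalkMap η).hom (IsLocalRing.maximalIdeal (X.presheaf.stalk (p η)))
      rw [c.ψ_C]
      have h1 : P.presheaf.germ (c.W (Fin.last n)) η hz (p.appLE U (c.W (Fin.last n)) (c.le _) a) =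
          p.stalkMap η (X.presheaf.germ U (p η) (c.le _ hz) a) := by
        rw [Scheme.Hom.germ_stalkMap_apply]
        exact P.presheaf.germ_res_apply (homOfLE (c.le _)) η hz (p.app U a)
      rw [h1]
      refine Ideal.mem_map_of_mem _ ?_
      rw [← IsLocalRing.residue_eq_zero_iff]
      show X.evaluation U (p η) (c.le _ hz) a = 0
      rw [evaluation_eq_zero_iff c.isAffine]
      simpa only [h.apply_eq] using ha
    exact hC hf
  rw [hmax]
  haveI : IsSimpleModule (P.presheaf.stalk η) (P.presheaf.stalk η ⧸ IsLocalRing.maximalIdeal (P.presheaf.stalk η)) :=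
    isSimpleModule_iff_quot_maximal.2 ⟨_, inferInstance, ⟨LinearEquiv.refl _ _⟩⟩
  exact Module.length_eq_one _ _

include hξ in
theorem IsEta.pullFun_eq (hd : Cyc.IsDimFun P δP) (hδ : Cyc.DeltaCompat p δP δ) {η : P}
    (h : c.IsEta ξ 0 η) (α : X → ℤ) {z : P} (hz : p z = ξ) :
    Cyc.pullFun p δP δ n α z = @ite _ (z = η) (Classical.propDecidable _) (α ξ) 0 := by
  classical
  obtain ⟨h1, h2⟩ := h.eq_of_delta c hξ hd hδ hz
  by_cases e : z = η
  · subst e
    rw [if_pos rfl, Cyc.pullFun, if_pos, h.fibreLen_eq_one c hξ, hz]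
    · simp
    · rw [hz]
      simpa using h.delta_eq c hξ hd hδ (Nat.zero_le n)
  · rw [if_neg e, Cyc.pullFun, if_neg]
    rw [hz]
    exact fun e' => e (h2 e')

variable [IsLocallyNoetherian P]

include hξ in
theorem IsEta.secDivFun_eq (hinv : PicF.IsInvertible O1) (hd : Cyc.IsDimFun P δP)
    {i : ℕ} (hi : i < n) {η η' : P} (h : c.IsEta ξ i η) (h' : c.IsEta ξ (i + 1) η')
    (hη : p η ∈ U) {x : P} (hx : p x ∈ U) :
    Cyc.secDivFun δP O1 η (c.cs ⟨i, by omega⟩ η hη) x = @ite _ (x = η') (Classical.propDecidable _) 1 0 := by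
  classical
  obtain ⟨hδη, hne⟩ := h.delta_succ c hξ hd hi h'
  by_cases hs : η ⤳ x ∧ δP x + 1 = δP η
  swap
  · rw [Cyc.secDivFun, dif_neg hs, if_neg]
    rintro rfl
    exact hs ⟨h.specializes_succ c hξ h', hδη.symm⟩
  obtain ⟨hsp, hδx⟩ := hs
  -- a chart at `x`, taken to be the last one at `η'`
  obtain ⟨j, hxj, hlast⟩ : ∃ j, x ∈ c.W j ∧ (x = η' → j = Fin.last n) := by
    by_cases e : x = η'
    · subst e
      exact ⟨_, (h'.mem_W c (j := Fin.last n) (by simp; omega) hξ).1, fun _ => rfl⟩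
    · obtain ⟨j, hj⟩ := c.cover x hx
      exact ⟨j, hj, fun h => absurd h e⟩
  have hηj : η ∈ c.W j := hsp.mem_open (c.W j).2 hxj
  have hij : i ≤ j := c.le_of_vanish hηj h.vanish
  have hspec : O1.presheaf.stalkSpecializes hsp (c.sg j x hx) = c.sg j η hη :=
    TopCat.Presheaf.germ_stalkSpecializes_apply _ _ hsp _
  have hspan : Submodule.span (P.presheaf.stalk x) {c.sg j x hx} = ⊤ := (c.isGen_sg j x hxj).1
  rcases eq_or_lt_of_le hij with hij' | hij'
  · have hj : (⟨i, by omega⟩ : Fin (n + 1)) = j := Fin.ext hij'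
    have hne' : x ≠ η' := fun e => by
      have h1 := congrArg Fin.val (hlast e)
      simp only [Fin.val_last] at h1
      omega
    have hcs : c.cs ⟨i, by omega⟩ η hη = c.cs j η hη := by simp only [hj]
    rw [RatSec.secDivFun_eq hinv hd hsp hspan (φ := 1) (by rw [one_smul, hspec, hcs]; rfl)
      (by rw [map_one]; exact one_ne_zero), if_neg hne', map_one, CycLib.divFun_eq δP _ hsp hδx,
      CycLib.ordAt_one hd hsp hδx]
  have hne : (⟨i, by omega⟩ : Fin (n + 1)) ≠ j := fun e => by rw [← e] at hij'; exact lt_irrefl _ hij'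
  obtain ⟨l, hl⟩ := Fin.exists_succAbove_eq hne
  have hlv : (j.succAbove l : ℕ) = i := congrArg Fin.val hl
  set φ := P.presheaf.germ (c.W j) η hηj (c.ψ j (MvPolynomial.X l)) with hφdef
  have hcs : c.cs ⟨i, by omega⟩ η hη = φ • cls O1 η (O1.presheaf.stalkSpecializes hsp (c.sg j x hx)) := by
    rw [hspec]
    have := c.cs_succAbove j l η hηj
    simp only [hl] at this
    exact this
  obtain ⟨hηj', eη⟩ := h.mem_W c hij hξ
  have hφ : P.residue η φ ≠ 0 := by
    show MvPolynomial.X l ∉ c.pr j η hηj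
    rw [eη, X_mem_J_iff]
    show ¬ ((j.succAbove l : ℕ) < i)
    omega
  rw [RatSec.secDivFun_eq hinv hd hsp hspan hcs hφ, CycLib.divFun_eq δP _ hsp hδx]
  have hval : P.residue η φ = Cyc.specMap x η hsp (P.presheaf.germ (c.W j) x hxj (c.ψ j (MvPolynomial.X l))) :=
    (CycLib.specMap_germ hsp (c.W j) hxj _).symm
  rw [hval]
  obtain ⟨hη'j, e'⟩ := h'.mem_W c (j := j) (by omega) hξ
  by_cases hxl : MvPolynomial.X l ∈ c.pr j x hxj
  swap
  · rw [CycLib.ordAt_eq_zero_of_isUnit hd hsp hδx, if_neg]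
    · intro e
      refine hxl ?_
      have : MvPolynomial.X l ∈ c.pr j η' hη'j := by
        rw [e', Sset_succ hlv, X_mem_J_iff]
        exact Set.mem_insert _ _
      subst e
      exact this
    · rw [← P.mem_basicOpen _ x hxj, ← P.evaluation_ne_zero_iff_mem_basicOpen x hxj]
      exact hxl
  have hle : J (c.pU hξ) (Sset j (i + 1)) ≤ c.pr j x hxj := by
    rw [Sset_succ hlv, J_insert]
    exact sup_le (eη ▸ (c.specializes_iff j hηj hxj).1 hsp) (Ideal.span_le.2 (Set.singleton_subset_iff.2 hxl))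
  obtain rfl : x = η' := (CycLib.eq_of_delta_le hd ((c.specializes_iff j hη'j hxj).2 (e'.le.trans hle)) (by omega)).symm
  rw [if_pos rfl, ← CycLib.algebraMap_locQuot_mk]
  set g := P.presheaf.germ (c.W j) x hxj (c.ψ j (MvPolynomial.X l)) with hg
  have hg0 : Ideal.Quotient.mk (RingHom.ker (Cyc.specMap x η hsp)) g ≠ 0 := fun h0 => hφ (by
    rw [hval, ← CycLib.algebraMap_locQuot_mk, h0, map_zero])
  rw [CycLib.ordAt_algebraMap hd hsp hδx hg0]
  have hspan' : Ideal.span {Ideal.Quotient.mk (RingHom.ker (Cyc.specMap x η hsp)) g} =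
      IsLocalRing.maximalIdeal (Cyc.LocQuot x η hsp) := by
    refine le_antisymm ?_ ?_
    · rw [Ideal.span_le, Set.singleton_subset_iff]
      intro hu
      obtain ⟨b, hb⟩ := isUnit_iff_exists_inv.1 hu
      obtain ⟨b, rfl⟩ := Ideal.Quotient.mk_surjective b
      rw [← map_mul, ← map_one (Ideal.Quotient.mk (RingHom.ker (Cyc.specMap x η hsp))), Ideal.Quotient.mk_eq_mk_iff_sub_mem] at hb
      have h2 : g * b - 1 ∈ IsLocalRing.maximalIdeal (P.presheaf.stalk x) :=
        IsLocalRing.le_maximalIdeal (RingHom.ker_ne_top _) hb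
      have h3 : g * b ∈ IsLocalRing.maximalIdeal (P.presheaf.stalk x) := Ideal.mul_mem_right _ _ (by
        rw [← IsLocalRing.residue_eq_zero_iff]
        exact hxl)
      exact (IsLocalRing.maximalIdeal.isMaximal (P.presheaf.stalk x)).ne_top
        ((Ideal.eq_top_iff_one (IsLocalRing.maximalIdeal (P.presheaf.stalk x))).2 (by simpa using sub_mem h3 h2))
    intro m hm
    obtain ⟨m, rfl⟩ := Ideal.Quotient.mk_surjective m
    have hm' : m ∈ IsLocalRing.maximalIdeal (P.presheaf.stalk x) := fun hu => hm (hu.map _)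
    letI := P.presheaf.algebra_section_stalk ⟨x, hxj⟩
    haveI := (c.affine j).isLocalization_stalk ⟨x, hxj⟩
    rw [← IsLocalization.AtPrime.map_eq_maximalIdeal ((c.affine j).primeIdealOf ⟨x, hxj⟩).asIdeal] at hm'
    have key : Ideal.map (algebraMap Γ(P, c.W j) (P.presheaf.stalk x)) ((c.affine j).primeIdealOf ⟨x, hxj⟩).asIdeal ≤
        (Ideal.span {Ideal.Quotient.mk (RingHom.ker (Cyc.specMap x η hsp)) g}).comap
          (Ideal.Quotient.mk (RingHom.ker (Cyc.specMap x η hsp))) := by
      refine Ideal.map_le_iff_le_comap.2 fun q hq => ?_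
      obtain ⟨f, rfl⟩ := (c.bij j).2 q
      have hf : f ∈ J (c.pU hξ) (Sset j (i + 1)) := e' ▸ ((c.pr_eq_comap j x hxj).symm ▸ hq : f ∈ c.pr j x hxj)
      have h2 : J (c.pU hξ) (Sset j (i + 1)) ≤ Ideal.comap
          ((Ideal.Quotient.mk (RingHom.ker (Cyc.specMap x η hsp))).comp
            ((algebraMap Γ(P, c.W j) (P.presheaf.stalk x)).comp (c.ψ j)))
          (Ideal.span {Ideal.Quotient.mk (RingHom.ker (Cyc.specMap x η hsp)) g}) := by
        rw [Sset_succ hlv, J_insert]
        refine sup_le (fun a ha => ?_) (Ideal.span_le.2 (Set.singleton_subset_iff.2 (Ideal.mem_span_singleton_self _)))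
        rw [Ideal.mem_comap]
        have : Ideal.Quotient.mk (RingHom.ker (Cyc.specMap x η hsp))
            (P.presheaf.germ (c.W j) x hxj (c.ψ j a)) = 0 := by
          rw [Ideal.Quotient.eq_zero_iff_mem, RingHom.mem_ker, CycLib.specMap_germ]
          exact (show a ∈ c.pr j η hηj from eη.symm ▸ ha)
        exact this ▸ zero_mem _
      exact h2 hf
    exact key hm'
  have h1 : Ring.ord (Cyc.LocQuot x η hsp) (Ideal.Quotient.mk (RingHom.ker (Cyc.specMap x η hsp)) g) = 1 := by
    show Module.length _ (_ ⧸ Ideal.span _) = 1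
    rw [hspan']
    haveI : IsSimpleModule (Cyc.LocQuot x η hsp) (Cyc.LocQuot x η hsp ⧸ IsLocalRing.maximalIdeal (Cyc.LocQuot x η hsp)) :=
      isSimpleModule_iff_quot_maximal.2 ⟨_, inferInstance, ⟨LinearEquiv.refl _ _⟩⟩
    exact Module.length_eq_one _ _
  rw [h1]
  rfl

end Groth.Agent.H23.ProjBd.Coords

end
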