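import Groth.Agent.H23.ProjBd.Ops

/-! Independence of the classes `c₁^i ∩ π^*α_i` on a projective bundle. -/

set_option autoImplicit false
set_option backward.isDefEq.respectTransparency false
set_option backward.isDefEq.respectTransparency.types false

universe u

open CategoryTheory AlgebraicGeometry TopologicalSpace Opposite

noncomputable section

namespace Groth.Agent.H23.ProjBd.HasCoords

open Groth.Agent RatSec

variable {X P : Scheme.{u}} {p : P ⟶ X} {O1 : P.Modules} {n : ℕ} (hP : HasCoords p O1 n)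
  [IsProper p] {δP : P → ℤ} {δ : X → ℤ} (hX : Cyc.IsSetup X δ) (hPs : Cyc.IsSetup P δP)
  (hδ : Cyc.DeltaCompat p δP δ)

include hP hX hPs hδ in
/-- `Σ c₁^i ∩ π^*α_i ∼ 0` forces every `α_i ∼ 0`. -/
theorem independent {k : ℤ} (α : Fin (n + 1) → AlgebraicCycle X ℤ)
    (hα : ∀ i : Fin (n + 1), α i ∈ Cyc.Zk X δ (k + ((i : ℕ) : ℤ))) (t : Fin (n + 1) → ℕ → (ξ : P) → Cyc.secFibre O1 ξ)
    (ht : ∀ i m ξ, t i m ξ ≠ 0) (γ : Fin (n + 1) → ℕ → P → ℤ)
    (hγ0 : ∀ i, γ i 0 = Cyc.pullFun p δP δ n ⇑(α i))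
    (hγs : ∀ i m, γ i (m + 1) = Cyc.c1CapFun δP O1 (γ i m) (t i m)) (β : AlgebraicCycle P ℤ)
    (hβ : ∀ x, β x = ∑ i : Fin (n + 1), γ i (i : ℕ) x) (h0 : Cyc.RatEquivZero δP (k + n) β) :
    ∀ i : Fin (n + 1), Cyc.RatEquivZero δ (k + ((i : ℕ) : ℤ)) (α i) := by
  classical
  haveI := hX.1
  haveI := hPs.1
  have hd := hPs.2.2
  have hdX := hX.2.2
  let Z := fun j => ratZero hd j
  have hZk : ∀ i : Fin (n + 1), hP.cl hd hδ i (α i) ∈ Cyc.Zk P δP (k + n) := fun i => by
    have := hP.cl_mem_Zk hd hδ (hα i) i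
    rwa [show k + ((i : ℕ) : ℤ) + n - (i : ℕ) = k + n by ring] at this
  -- replace the given rational sections by fixed ones
  have h1 : ∑ i : Fin (n + 1), hP.cl hd hδ i (α i) ∈ Z (k + n) := by
    let B := fun i : Fin (n + 1) => capIter hP.invertible hd (hP.pullCycle hd hδ (α i)) (t i) (ht i) i
    have hB : β = ∑ i : Fin (n + 1), B i := by
      ext x
      rw [hβ, Function.locallyFinsuppWithin.coe_sum, Finset.sum_apply]
      exact Finset.sum_congr rfl fun i _ =>
        congrFun (eq_capIter hP.invertible hd (hP.pullCycle hd hδ (α i)) (t i) (ht i) (hγ0 i) (hγs i) i) x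
    have hd' : ∀ i : Fin (n + 1), hP.cl hd hδ i (α i) - B i ∈ Z (k + n) := fun i => by
      have h := ratEquiv_capIter hP.invertible hd (hP.pullCycle_mem_Zk hd hδ (hα i))
        (β' := hP.pullCycle hd hδ (α i)) (RatOn.ratEquiv (T := Set.univ) (RatOn.congr (RatOn.zero _) fun x => sub_self _))
        (fun _ => hP.sec 0) (t i) (fun _ => hP.sec_ne_zero 0) (ht i) i
      rw [show k + ((i : ℕ) : ℤ) + n - (i : ℕ) = k + n by ring, ← hP.cl_eq] at h
      exact h
    have h := (Z (k + n)).sum_mem fun (i : Fin (n + 1)) (_ : i ∈ Finset.univ) => hd' i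
    rw [Finset.sum_sub_distrib, ← hB] at h
    simpa using (Z (k + n)).add_mem h (show β ∈ Z (k + n) from h0)
  suffices h : ∀ d : ℕ, ∀ i : Fin (n + 1), n + 1 ≤ (i : ℕ) + d → Cyc.RatEquivZero δ (k + ((i : ℕ) : ℤ)) (α i) from
    fun i => h (n + 1) i (by omega)
  intro d
  induction d with
  | zero => intro i hi; omega
  | succ d ih =>
    intro m hm
    let a := n - (m : ℕ)
    have ha : (a : ℤ) = (n : ℤ) - (m : ℕ) := by have := m.2; omega
    let L : AlgebraicCycle P ℤ →+ AlgebraicCycle X ℤ :=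
      (AddMonoidHom.ofMapSub (AlgebraicCycle.map p δP δ) fun a b => CycLib.map_sub' p δP δ a b).comp
        { toFun := (hP.capHom hd)^[a]
          map_zero' := iterate_map_zero (hP.capHom hd) a
          map_add' := iterate_map_add (hP.capHom hd) a }
    have hL : L (∑ i : Fin (n + 1), hP.cl hd hδ i (α i)) ∈ ratZero hdX (k + (m : ℕ)) := by
      have hsum : (∑ i : Fin (n + 1), hP.cl hd hδ i (α i)) ∈ Cyc.Zk P δP (k + n) := fun x hx => by
        rw [Function.locallyFinsuppWithin.coe_sum, Finset.sum_apply]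
        exact Finset.sum_eq_zero fun i _ => hZk i x hx
      have h := ratEquiv_capIter hP.invertible hd hsum (β' := 0) (by rw [Cyc.RatEquiv, sub_zero]; exact h1)
        (fun _ => hP.sec 0) (fun _ => hP.sec 0) (fun _ => hP.sec_ne_zero 0) (fun _ => hP.sec_ne_zero 0) a
      rw [hP.capIter_eq hd, hP.capIter_eq hd, iterate_map_zero, Cyc.RatEquiv, sub_zero,
        show k + (n : ℤ) - a = k + (m : ℕ) by rw [ha]; ring] at h
      exact CycLib.ratEquivZero_map p hPs hX hδ h
    have hterm : ∀ i : Fin (n + 1), L (hP.cl hd hδ i (α i)) - (if i = m then α m else 0) ∈ ratZero hdX (k + (m : ℕ)) := by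
      intro i
      have hLi : L (hP.cl hd hδ i (α i)) = AlgebraicCycle.map p δP δ (hP.cl hd hδ (a + i) (α i)) :=
        congrArg (AlgebraicCycle.map p δP δ) (Function.iterate_add_apply (hP.capHom hd) a i _).symm
      have he : k + ((i : ℕ) : ℤ) + n - ((a + (i : ℕ) : ℕ) : ℤ) = k + (m : ℕ) := by push_cast; rw [ha]; ring
      rw [hLi]
      rcases lt_trichotomy (i : ℕ) m with h | h | h
      · have h2 := hP.push_cl hd hδ hdX hPs hX (hα i) (m := a + i) (by omega)
        rw [if_neg (by omega), he] at h2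
        rw [if_neg (fun e => by subst e; omega)]
        exact h2
      · obtain rfl := Fin.ext h
        have h2 := hP.push_cl hd hδ hdX hPs hX (hα i) (m := a + i) (by omega)
        rw [if_pos (by omega), he] at h2
        rw [if_pos rfl]
        exact h2
      · rw [if_neg (fun e => by subst e; omega), sub_zero]
        have h2 := hP.cl_ratEquivZero hd hδ hdX (hα i) (ih i (by omega)) (a + i)
        rw [he] at h2
        exact CycLib.ratEquivZero_map p hPs hX hδ h2
    have h3 := (ratZero hdX (k + (m : ℕ))).sum_mem fun (i : Fin (n + 1)) (_ : i ∈ Finset.univ) => hterm i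
    rw [Finset.sum_sub_distrib, ← map_sum, Finset.sum_ite_eq' Finset.univ m (fun _ => α m),
      if_pos (Finset.mem_univ m)] at h3
    simpa [mem_ratZero] using (ratZero hdX (k + (m : ℕ))).sub_mem hL h3

end Groth.Agent.H23.ProjBd.HasCoords

end
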