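import Groth.Agent.H23.ProjBd.OfProjBundle
import Groth.Agent.H23.ProjBd.Span
import Groth.Agent.H23.ProjBd.Indep

/-!
The projective completion `P(O ⊞ E)` of a vector bundle: coordinates whose first member is the tautological
section, and the classes of cycles in the hyperplane where it vanishes.
-/

set_option autoImplicit false
set_option backward.isDefEq.respectTransparency false
set_option backward.isDefEq.respectTransparency.types false

universe u

open CategoryTheory CategoryTheory.Limits AlgebraicGeometry TopologicalSpace Opposite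

noncomputable section

namespace Groth.Agent.H23.ProjBd.Hyper

open Groth.Agent Groth.Agent.AModX RatSec

variable {X : Scheme.{u}} {E : X.Modules}

/-- The completed module. -/
abbrev comp (E : X.Modules) : X.Modules := Coh.structureModule X ⊞ E

/-- The unit section of the completion. -/
def one (V : X.Opens) : Γ(comp E, V) :=
  (biprod.inl : Coh.structureModule X ⟶ comp E).app V (1 : Γ(X, V))

/-- The frame of the completion given by a frame of the module. -/
def consFrame {n : ℕ} {V : X.Opens} (b : Fin n → Γ(E, V)) : Fin (n + 1) → Γ(comp E, V) :=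
  Fin.cases (one V) fun i => (biprod.inr : E ⟶ comp E).app V (b i)

theorem res_one {V V' : X.Opens} (h : V' ≤ V) : res (comp E) h (one V) = one V' := by
  rw [one, ← app_res]
  exact congrArg _ (map_one (X.presheaf.map (homOfLE h).op).hom)

theorem isFrame_consFrame {n : ℕ} {V : X.Opens} {b : Fin n → Γ(E, V)} (hb : Frame.IsFrame E b) :
    Frame.IsFrame (comp E) (consFrame b) := by
  intro W h
  let ι₁ : Coh.structureModule X ⟶ comp E := biprod.inl
  let ι₂ : E ⟶ comp E := biprod.inr
  let π₁ : comp E ⟶ Coh.structureModule X := biprod.fst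
  let π₂ : comp E ⟶ E := biprod.snd
  have key : ∀ c : Fin (n + 1) → Γ(X, W), Frame.comb (comp E) (consFrame b) W h c =
      ι₁.app W (c 0) + ι₂.app W (Frame.comb E b W h fun i => c i.succ) := by
    intro c
    rw [Frame.comb, Fin.sum_univ_succ, Frame.comb, map_sum]
    congr 1
    · show c 0 • res (comp E) h (one V) = _
      rw [res_one, one, ← Scheme.Modules.Hom.app_smul]
      exact congrArg _ (mul_one (c 0))
    · refine Finset.sum_congr rfl fun i _ => ?_
      show c i.succ • res (comp E) h (ι₂.app V (b i)) = _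
      rw [← app_res, ← Scheme.Modules.Hom.app_smul]
      rfl
  have e11 : ι₁ ≫ π₁ = 𝟙 _ := biprod.inl_fst
  have e12 : ι₁ ≫ π₂ = 0 := biprod.inl_snd
  have e21 : ι₂ ≫ π₁ = 0 := biprod.inr_fst
  have e22 : ι₂ ≫ π₂ = 𝟙 _ := biprod.inr_snd
  have et : π₁ ≫ ι₁ + π₂ ≫ ι₂ = 𝟙 _ := biprod.total
  constructor
  · intro c c' hcc
    rw [key, key] at hcc
    have h1 := congrArg (π₁.app W) hcc
    have h2 := congrArg (π₂.app W) hcc
    simp only [map_add] at h1 h2
    have a11 : ∀ x, π₁.app W (ι₁.app W x) = x := fun x => congrArg (fun f => Scheme.Modules.Hom.app f W x) e11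
    have a12 : ∀ x, π₂.app W (ι₁.app W x) = 0 := fun x => congrArg (fun f => Scheme.Modules.Hom.app f W x) e12
    have a21 : ∀ x, π₁.app W (ι₂.app W x) = 0 := fun x => congrArg (fun f => Scheme.Modules.Hom.app f W x) e21
    have a22 : ∀ x, π₂.app W (ι₂.app W x) = x := fun x => congrArg (fun f => Scheme.Modules.Hom.app f W x) e22
    rw [a11, a21, a11, a21, add_zero, add_zero] at h1
    rw [a12, a22, a12, a22, zero_add, zero_add] at h2
    have h3 := congrFun ((hb W h).1 h2)
    funext i
    induction i using Fin.cases with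
    | zero => exact h1
    | succ i => exact h3 i
  · intro x
    obtain ⟨c, hc⟩ := (hb W h).2 (π₂.app W x)
    refine ⟨Fin.cases (π₁.app W x) c, ?_⟩
    rw [key]
    simp only [Fin.cases_zero, Fin.cases_succ, hc]
    exact congrArg (fun f => Scheme.Modules.Hom.app f W x) et

variable {P : Scheme.{u}} {p : P ⟶ X} {O1 : P.Modules} (q : (Scheme.Modules.pullback p).obj (comp E) ⟶ O1)

/-- The complement of the hyperplane at infinity. -/
def W₀ : P.Opens := PBlow.locus q (fun _ : Fin 1 => one (⊤ : X.Opens)) 0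

theorem sig_one {U : X.Opens} :
    q.app (p ⁻¹ᵁ U) (InvX.pullElt p (one U)) =
      res O1 (p.preimage_mono le_top) (q.app (p ⁻¹ᵁ ⊤) (InvX.pullElt p (one (E := E) (⊤ : X.Opens)))) := by
  rw [← app_res]
  refine congrArg _ ?_
  have h1 : InvX.pullElt p (one (E := E) U) = InvX.pullElt p (res (comp E) le_top (one (⊤ : X.Opens))) := by
    rw [res_one]
  rw [h1]
  exact app_res ((Scheme.Modules.pullbackPushforwardAdjunction p).unit.app (comp E)) le_top _

theorem locus_zero {n : ℕ} {U : X.Opens} (b : Fin n → Γ(E, U)) :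
    PBlow.locus q (consFrame b) 0 = W₀ q ⊓ p ⁻¹ᵁ U := by
  have hsig : PBlow.sig q (consFrame b) 0 = res O1 (p.preimage_mono le_top) (PBlow.sig q (fun _ : Fin 1 => one (⊤ : X.Opens)) 0) :=
    sig_one q
  refine le_antisymm (le_inf ?_ (PBlow.locus_le q _ 0)) ?_
  · refine PBlow.le_locus q _ ((PBlow.locus_le q _ 0).trans (p.preimage_mono le_top)) ?_
    have := PBlow.isFrame_sig q (consFrame b) 0
    rw [hsig, res_res] at this
    exact this
  · refine PBlow.le_locus q _ inf_le_right ?_
    rw [hsig, res_res]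
    have := (PBlow.isFrame_sig q (fun _ : Fin 1 => one (⊤ : X.Opens)) 0).res (inf_le_left : W₀ q ⊓ p ⁻¹ᵁ U ≤ W₀ q)
    rw [res_res] at this
    exact this

variable {q}

/-- Coordinates whose first member is the tautological section. -/
theorem exists_coords (hP : KRR.IsProjBundle p (comp E) O1 q) {n : ℕ} (hE : FlatMod.IsFinLocFreeOfRank n E) (x : X) :
    ∃ (U : X.Opens) (_ : x ∈ U) (c : Coords p O1 n U), c.W 0 = W₀ q ⊓ p ⁻¹ᵁ U ∧
      c.s 0 = res O1 (p.preimage_mono le_top) (PBlow.sig q (fun _ : Fin 1 => one (⊤ : X.Opens)) 0) := by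
  obtain ⟨V, hxV, ⟨i⟩⟩ := hE x
  obtain ⟨b₀, hb₀⟩ := Frame.exists_frame i
  obtain ⟨_, ⟨U, hU, rfl⟩, hxU, hUV⟩ := X.isBasis_affineOpens.exists_subset_of_mem_open hxV V.isOpen
  exact ⟨U, hxU, coordsOfFrame hP hU _ (isFrame_consFrame (hb₀.res hUV)), locus_zero q _, sig_one q⟩

/-- The atlas of the completion. -/
def atlas (hP : KRR.IsProjBundle p (comp E) O1 q) {n : ℕ} (hE : FlatMod.IsFinLocFreeOfRank n E) : Atlas p O1 n where
  invertible := isInvertible_of_projBundle hP
  nhd x := (exists_coords hP hE x).choose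
  mem_nhd x := (exists_coords hP hE x).choose_spec.choose
  coords x := (exists_coords hP hE x).choose_spec.choose_spec.choose

/-- The hyperplane at infinity. -/
def infty (q : (Scheme.Modules.pullback p).obj (comp E) ⟶ O1) : Set P := ((W₀ q : P.Opens) : Set P)ᶜ

theorem isClosed_infty : IsClosed (infty q) := (W₀ q).2.isClosed_compl

variable (hP : KRR.IsProjBundle p (comp E) O1 q) {n : ℕ} (hE : FlatMod.IsFinLocFreeOfRank n E)

theorem mem_infty_iff (x : X) (z : P) (hz : p z ∈ (atlas hP hE).nhd x) :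
    z ∈ infty q ↔ ((atlas hP hE).coords x).Vanish 1 z := by
  let c := (atlas hP hE).coords x
  have hW : c.W 0 = W₀ q ⊓ p ⁻¹ᵁ (atlas hP hE).nhd x := (exists_coords hP hE x).choose_spec.choose_spec.choose_spec.1
  have h1 : z ∈ W₀ q ↔ c.cs 0 z hz ≠ 0 := by
    rw [← c.mem_W_iff 0 z hz, hW]
    exact ⟨fun h => ⟨h, hz⟩, fun h => h.1⟩
  constructor
  · intro h _ l hl
    obtain rfl : l = 0 := Fin.ext (by simpa using hl)
    exact not_not.1 fun hne => h (h1.2 hne)
  · intro h hW₀
    exact h1.1 hW₀ (h hz 0 (by simp))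

variable [IsLocallyNoetherian X] [IsLocallyNoetherian P] [IsProper p] {δP : P → ℤ} {δ : X → ℤ}
  (hd : Cyc.IsDimFun P δP) (hδ : Cyc.DeltaCompat p δP δ)

theorem mem_infty_of_cycle (α : AlgebraicCycle X ℤ) : ∀ (N : ℕ), 1 ≤ N → N ≤ n → ∀ z,
    (atlas hP hE).cycle hd hδ α N z ≠ 0 → z ∈ infty q := by
  classical
  intro N
  induction N with
  | zero => intro h; omega
  | succ i ih =>
    intro _ hi x hx hxW
    obtain ⟨ζ, hζ⟩ : ∃ ζ, (atlas hP hE).cycle hd hδ α i ζ *
        Cyc.secDivFun δP O1 ζ ((atlas hP hE).sec i ζ) x ≠ 0 := by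
      by_contra hn
      push Not at hn
      exact hx (finsum_eq_zero_of_forall_eq_zero hn)
    have hζx : ζ ⤳ x := by
      by_contra hn
      exact hζ (by simp [Cyc.secDivFun, hn])
    have hζW : ζ ∈ W₀ q := hζx.mem_open (W₀ q).2 hxW
    rcases Nat.eq_zero_or_pos i with rfl | hi0
    swap
    · exact ih hi0 (by omega) ζ (left_ne_zero_of_mul hζ) hζW
    refine right_ne_zero_of_mul hζ ?_
    let c := (atlas hP hE).coords (p ζ)
    let e₀ : Γ(O1, W₀ q) := res O1 (PBlow.locus_le q _ 0) (PBlow.sig q (fun _ : Fin 1 => one (⊤ : X.Opens)) 0)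
    have hgen : ∀ y (hy : y ∈ W₀ q), IsGen (O1.presheaf.germ (W₀ q) y hy e₀) := fun y hy =>
      isGen_germ (PBlow.isFrame_sig q (fun _ : Fin 1 => one (⊤ : X.Opens)) 0) y hy
    have hmem := (atlas hP hE).mem_nhd (p ζ)

    have hne : c.cs 0 ζ hmem ≠ 0 := fun h0 => (mem_infty_iff hP hE (p ζ) ζ hmem).2 (fun _ l hl => by
      obtain rfl : l = 0 := Fin.ext (by simpa using hl)
      exact h0) hζW
    have hsg : c.sg 0 ζ hmem = O1.presheaf.stalkSpecializes hζx (O1.presheaf.germ (W₀ q) x hxW e₀) := by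
      rw [TopCat.Presheaf.germ_stalkSpecializes_apply]
      have hW : c.W 0 = W₀ q ⊓ p ⁻¹ᵁ (atlas hP hE).nhd (p ζ) :=
        (exists_coords hP hE (p ζ)).choose_spec.choose_spec.choose_spec.1
      have hs : c.s 0 = res O1 (p.preimage_mono le_top) (PBlow.sig q (fun _ : Fin 1 => one (⊤ : X.Opens)) 0) := by
        exact (exists_coords hP hE (p ζ)).choose_spec.choose_spec.choose_spec.2
      show O1.presheaf.germ _ ζ _ (c.s 0) = _
      rw [hs]
      exact (O1.presheaf.germ_res_apply _ _ _ _).trans (O1.presheaf.germ_res_apply _ _ _ _).symm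
    have hsec : (atlas hP hE).sec 0 ζ = (1 : P.presheaf.stalk ζ) • cls O1 ζ (O1.presheaf.stalkSpecializes hζx
        (O1.presheaf.germ (W₀ q) x hxW e₀)) := by
      rw [Atlas.sec, dif_pos ⟨Nat.succ_pos n, hne⟩, one_smul, ← hsg]
      rfl
    rw [secDivFun_eq (atlas hP hE).invertible hd hζx (hgen x hxW).1 hsec (by rw [map_one]; exact one_ne_zero), map_one]
    unfold Cyc.divFun
    split_ifs with h
    · exact CycLib.ordAt_one hd h.1 h.2
    · rfl

include hP hE hd hδ in
/-- Pull-back to the completion is injective modulo cycles at infinity. -/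
theorem ratEquivZero_of_infty (hX : Cyc.IsSetup X δ) (hPs : Cyc.IsSetup P δP) {k : ℤ} {α : AlgebraicCycle X ℤ}
    (hα : α ∈ Cyc.Zk X δ k) {D : AlgebraicCycle P ℤ} (hD : D ∈ Cyc.Zk P δP (k + n))
    (hDT : ∀ z, D z ≠ 0 → z ∈ infty q)
    (h0 : Cyc.RatEquivZero δP (k + n) ((atlas hP hE).hasCoords.pullCycle hd hδ α + D)) :
    Cyc.RatEquivZero δ k α := by
  classical
  let A := atlas hP hE
  have hdX := hX.2.2
  obtain ⟨α', hα', hα0, he⟩ : ∃ α' : Fin (n + 1) → AlgebraicCycle X ℤ,
      (∀ i : Fin (n + 1), α' i ∈ Cyc.Zk X δ (k + ((i : ℕ) : ℤ))) ∧ α' 0 = 0 ∧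
      Cyc.RatEquiv δP (k + n) D (∑ i : Fin (n + 1), A.hasCoords.cl hd hδ i (α' i)) := by
    rcases Nat.eq_zero_or_pos n with rfl | hn
    · have hD0 : D = 0 := by
        ext z
        by_contra hz
        have hv := (mem_infty_iff hP hE (p z) z (A.mem_nhd _)).1 (hDT z hz)
        obtain ⟨l, hl⟩ := (A.coords (p z)).cover z (A.mem_nhd _)
        have := (A.coords (p z)).le_of_vanish hl hv
        have := l.2
        omega
      refine ⟨fun _ => 0, fun _ _ _ => rfl, rfl, ?_⟩
      rw [hD0, Finset.sum_eq_zero fun i _ => map_zero _]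
      exact RatOn.ratEquiv (T := Set.univ) (RatOn.congr (RatOn.zero _) fun x => sub_self _)
    obtain ⟨α', h1, h2, h3⟩ := A.span hd hdX hδ isClosed_infty (fun x z hz => mem_infty_iff hP hE x z hz)
      (mem_infty_of_cycle hP hE hd hδ) (show 1 ≤ n from hn) (n + 1) le_rfl D hD hDT fun x hx => by
        have h1 := CycLib.le_of_deltaCompat p hδ x
        have h2 : δP x = k + n := by_contra fun h => hx (hD x h)
        push_cast
        omega
    exact ⟨α', h1, h2 0 Nat.one_pos, h3⟩
  let c : Fin (n + 1) → AlgebraicCycle X ℤ := fun i => α' i + if i = 0 then α else 0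
  have hc : ∀ i : Fin (n + 1), c i ∈ Cyc.Zk X δ (k + ((i : ℕ) : ℤ)) := fun i x hx => by
    simp only [c, Function.locallyFinsuppWithin.coe_add, Pi.add_apply, hα' i x hx, zero_add]
    split_ifs with hi
    · subst hi; exact hα x (by simpa using hx)
    · rfl
  have hsum : ∑ i : Fin (n + 1), A.hasCoords.cl hd hδ i (c i) ∈ ratZero hd (k + n) := by
    rw [Cyc.RatEquiv] at he
    have h := (ratZero hd (k + n)).sub_mem (show _ ∈ ratZero hd (k + n) from h0) (show _ ∈ ratZero hd (k + n) from he)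
    have e0 : A.hasCoords.pullCycle hd hδ α = A.hasCoords.cl hd hδ (((0 : Fin (n + 1)) : ℕ)) α :=
      (A.hasCoords.cl_eq hd hδ 0 α).symm
    rw [show ∀ a b c : AlgebraicCycle P ℤ, a + b - (b - c) = a + c from fun a b c => by abel, e0] at h
    simp only [c, map_add, Finset.sum_add_distrib]
    rw [Finset.sum_eq_single (0 : Fin (n + 1))
      (f := fun i : Fin (n + 1) => A.hasCoords.cl hd hδ (i : ℕ) (if i = 0 then α else 0))
      (fun i _ hi => by simp only [if_neg hi, map_zero]) (fun h => absurd (Finset.mem_univ _) h), if_pos rfl]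
    rw [add_comm (∑ i : Fin (n + 1), A.hasCoords.cl hd hδ (i : ℕ) (α' i))]
    exact h
  have h := A.hasCoords.independent hX hPs hδ c hc (fun _ _ => A.hasCoords.sec 0) (fun _ _ => A.hasCoords.sec_ne_zero 0)
    (fun i m => ⇑(capIter A.hasCoords.invertible hd (A.hasCoords.pullCycle hd hδ (c i)) (fun _ => A.hasCoords.sec 0)
      (fun _ => A.hasCoords.sec_ne_zero 0) m)) (fun _ => rfl) (fun _ _ => rfl) (∑ i : Fin (n + 1), A.hasCoords.cl hd hδ i (c i))
    (fun x => by
      rw [Function.locallyFinsuppWithin.coe_sum, Finset.sum_apply]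
      exact Finset.sum_congr rfl fun i _ => congrFun (congrArg (⇑) (A.hasCoords.cl_eq hd hδ i (c i))) x)
    hsum 0
  simpa [c, hα0] using h

end Groth.Agent.H23.ProjBd.Hyper

end
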