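import Groth.Agent.H23.ProjBd.EtaCycle
import Groth.Agent.H23.ProjBd.Cap
import Groth.Agent.CycLib.DivPushAll

/-!
`π_*(c_1(O(1))^s ∩ π^*α)` for a morphism with projective coordinates.
-/

set_option autoImplicit false
set_option backward.isDefEq.respectTransparency false
set_option backward.isDefEq.respectTransparency.types false

universe u

open CategoryTheory AlgebraicGeometry TopologicalSpace Opposite

noncomputable section

namespace Groth.Agent.H23.ProjBd

open Groth.Agent RatSec FlatShift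

/-- A choice of coordinates around every point of the base. -/
structure Atlas {X P : Scheme.{u}} (p : P ⟶ X) (O1 : P.Modules) (n : ℕ) where
  invertible : PicF.IsInvertible O1
  nhd : X → X.Opens
  mem_nhd : ∀ x, x ∈ nhd x
  coords : ∀ x, Coords p O1 n (nhd x)

theorem Atlas.hasCoords {X P : Scheme.{u}} {p : P ⟶ X} {O1 : P.Modules} {n : ℕ} (A : Atlas p O1 n) :
    HasCoords p O1 n :=
  ⟨A.invertible, fun x => ⟨A.nhd x, A.mem_nhd x, ⟨A.coords x⟩⟩⟩

namespace HasCoords

variable {X P : Scheme.{u}} {p : P ⟶ X} {O1 : P.Modules} {n : ℕ} (hP : HasCoords p O1 n)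

/-- The chosen coordinates. -/
def atlas : Atlas p O1 n where
  invertible := hP.invertible
  nhd x := (hP.exists_coords x).choose
  mem_nhd x := (hP.exists_coords x).choose_spec.1
  coords x := (hP.exists_coords x).choose_spec.2.some

/-- A coordinate open around a point. -/
abbrev nhd (x : X) : X.Opens := hP.atlas.nhd x

theorem mem_nhd (x : X) : x ∈ hP.nhd x := hP.atlas.mem_nhd x

/-- Coordinates around a point. -/
abbrev coords (x : X) : Coords p O1 n (hP.nhd x) := hP.atlas.coords x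

variable [IsLocallyNoetherian X] {δP : P → ℤ} {δ : X → ℤ}

include hP in
theorem hasShift (hd : Cyc.IsDimFun P δP) (hδ : Cyc.DeltaCompat p δP δ) : HasShift p δP δ n := by
  intro z hmax
  let c := hP.coords (p z)
  obtain ⟨η, h⟩ := c.exists_isEta (hP.mem_nhd (p z)) (Nat.zero_le n)
  obtain rfl := h.fibMax_iff c (hP.mem_nhd (p z)) hd hδ rfl hmax
  simpa using h.delta_eq c (hP.mem_nhd (p z)) hd hδ (Nat.zero_le n)

variable [IsLocallyNoetherian P] [LocallyOfFiniteType p]

/-- The flat pull-back as a cycle. -/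
def pullCycle (hd : Cyc.IsDimFun P δP) (hδ : Cyc.DeltaCompat p δP δ) (α : AlgebraicCycle X ℤ) :
    AlgebraicCycle P ℤ where
  toFun := Cyc.pullFun p δP δ n ⇑α
  supportWithinDomain' := fun _ _ => trivial
  supportLocallyFiniteWithinDomain' := fun z _ =>
    C1Pull.locFin_pullFun (hP.hasShift hd hδ) hd (fun w => α.supportLocallyFiniteWithinDomain' w trivial) z

variable (hd : Cyc.IsDimFun P δP) (hdX : Cyc.IsDimFun X δ) (hδ : Cyc.DeltaCompat p δP δ)

theorem pullCycle_mem_Zk {α : AlgebraicCycle X ℤ} {k : ℤ} (hα : α ∈ Cyc.Zk X δ k) :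
    hP.pullCycle hd hδ α ∈ Cyc.Zk P δP (k + n) := by
  intro z hz
  show Cyc.pullFun p δP δ n (⇑α) z = 0
  rw [Cyc.pullFun]
  split_ifs with h
  · rw [hα (p z) (by omega), zero_mul]
  · rfl

end HasCoords

namespace Atlas

variable {X P : Scheme.{u}} {p : P ⟶ X} {O1 : P.Modules} {n : ℕ} (A : Atlas p O1 n)

open Classical in
/-- The coordinate sections used as rational sections. -/
def sec (i : ℕ) (z : P) : Cyc.secFibre O1 z :=
  if h : ∃ hi : i < n + 1, (A.coords (p z)).cs ⟨i, hi⟩ z (A.mem_nhd (p z)) ≠ 0 then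
    (A.coords (p z)).cs ⟨i, h.choose⟩ z (A.mem_nhd (p z))
  else (exists_sec_ne_zero A.invertible z).choose

theorem sec_ne_zero (i : ℕ) (z : P) : A.sec i z ≠ 0 := by
  rw [sec]
  split_ifs with h
  · exact h.choose_spec
  · exact (exists_sec_ne_zero A.invertible z).choose_spec

theorem sec_eta {i : ℕ} (hi : i ≤ n) {ξ : X} {η : P} (h : (A.coords ξ).IsEta ξ i η) (hη : p η ∈ A.nhd ξ) :
    A.sec i η = (A.coords ξ).cs ⟨i, by omega⟩ η hη := by
  obtain rfl := h.apply_eq
  have hne : (A.coords (p η)).cs ⟨i, by omega⟩ η (A.mem_nhd (p η)) ≠ 0 :=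
    (Coords.mem_W_iff _ _ η (A.mem_nhd _)).1 (h.mem_W _ le_rfl (A.mem_nhd _)).1
  rw [sec, dif_pos ⟨by omega, hne⟩]

variable [IsLocallyNoetherian X] [IsLocallyNoetherian P] [LocallyOfFiniteType p] {δP : P → ℤ} {δ : X → ℤ}
  (hd : Cyc.IsDimFun P δP) (hdX : Cyc.IsDimFun X δ) (hδ : Cyc.DeltaCompat p δP δ)

/-- The caps with the coordinate sections. -/
def cycle (α : AlgebraicCycle X ℤ) (i : ℕ) : AlgebraicCycle P ℤ :=
  capIter A.invertible hd (A.hasCoords.pullCycle hd hδ α) A.sec A.sec_ne_zero i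

open Classical in
theorem cycle_apply (hdX : Cyc.IsDimFun X δ) {α : AlgebraicCycle X ℤ} {k : ℤ} (hα : α ∈ Cyc.Zk X δ k) : ∀ (i : ℕ), i ≤ n →
    (∀ z, A.cycle hd hδ α i z ≠ 0 → ∃ ξ, α ξ ≠ 0 ∧ ξ ⤳ p z) ∧
    ∀ z, k ≤ δ (p z) → A.cycle hd hδ α i z = if (A.coords (p z)).IsEta (p z) i z then α (p z) else 0 := by
  intro i
  induction i with
  | zero =>
    intro _
    refine ⟨fun z hz => ⟨p z, ?_, specializes_rfl⟩, fun z _ => ?_⟩
    · intro h0
      refine hz ?_
      show Cyc.pullFun p δP δ n (⇑α) z = 0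
      simp [Cyc.pullFun, h0]
    · obtain ⟨η, h⟩ := (A.coords (p z)).exists_isEta (A.mem_nhd _) (Nat.zero_le n)
      show Cyc.pullFun p δP δ n (⇑α) z = _
      rw [h.pullFun_eq _ (A.mem_nhd _) hd hδ _ rfl]
      refine if_congr ⟨fun e => e ▸ h, fun h' => h'.unique _ (A.mem_nhd _) h⟩ rfl rfl
  | succ i ih =>
    intro hi
    obtain ⟨ih1, ih2⟩ := ih (by omega)
    refine ⟨fun x hx => ?_, fun x hx => ?_⟩
    · obtain ⟨z, hz⟩ : ∃ z, A.cycle hd hδ α i z * Cyc.secDivFun δP O1 z (A.sec i z) x ≠ 0 := by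
        by_contra hn
        push Not at hn
        exact hx (finsum_eq_zero_of_forall_eq_zero hn)
      obtain ⟨ξ, hξ, hsp⟩ := ih1 z (left_ne_zero_of_mul hz)
      have hzx : z ⤳ x := by
        by_contra hn
        exact hz (by simp [Cyc.secDivFun, hn])
      exact ⟨ξ, hξ, hsp.trans (hzx.map p.continuous)⟩
    -- only the point `η_i` over `p x` contributes
    let c := A.coords (p x)
    have hmem := A.mem_nhd (p x)
    obtain ⟨η, hη⟩ := c.exists_isEta hmem (show i ≤ n by omega)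
    obtain ⟨η', hη'⟩ := c.exists_isEta hmem (show i + 1 ≤ n by omega)
    have hcontr : ∀ z, A.cycle hd hδ α i z * Cyc.secDivFun δP O1 z (A.sec i z) x ≠ 0 → z = η := by
      intro z hz
      obtain ⟨ξ, hξ, hsp⟩ := ih1 z (left_ne_zero_of_mul hz)
      have hzx : z ⤳ x := by
        by_contra hn
        exact hz (by simp [Cyc.secDivFun, hn])
      have hδξ : δ ξ = k := by_contra fun h => hξ (hα ξ h)
      have h1 := CycLib.delta_le hdX (hzx.map p.continuous)
      have h2 := CycLib.delta_le hdX hsp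
      have e1 : ξ = p z := CycLib.eq_of_delta_le hdX hsp (by omega)
      have e2 : p z = p x := CycLib.eq_of_delta_le hdX (hzx.map p.continuous) (by omega)
      have h3 := left_ne_zero_of_mul hz
      rw [ih2 z (by omega), e2] at h3
      by_contra hne
      exact hne ((by by_contra hn; exact h3 (if_neg hn) : c.IsEta (p x) i z).unique c hmem hη)
    show Cyc.c1CapFun δP O1 (⇑(A.cycle hd hδ α i)) (A.sec i) x = _
    rw [Cyc.c1CapFun, finsum_eq_single _ η fun z hz => by_contra fun h => hz (hcontr z h),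
      ih2 η (by rw [hη.apply_eq]; exact hx), hη.apply_eq, if_pos hη,
      A.sec_eta (by omega) hη ((hη.mem c).2 hmem), hη.secDivFun_eq c hmem A.invertible hd (by omega) hη' _ hmem,
      mul_ite, mul_one, mul_zero]
    exact if_congr ⟨fun e => by subst e; exact hη', fun h => h.unique c hmem hη'⟩ rfl rfl

end Atlas

namespace HasCoords

variable {X P : Scheme.{u}} {p : P ⟶ X} {O1 : P.Modules} {n : ℕ} (hP : HasCoords p O1 n)

/-- The coordinate sections of the chosen coordinates. -/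
abbrev sec (i : ℕ) (z : P) : Cyc.secFibre O1 z := hP.atlas.sec i z

theorem sec_ne_zero (i : ℕ) (z : P) : hP.sec i z ≠ 0 := hP.atlas.sec_ne_zero i z

variable [IsLocallyNoetherian X] [IsLocallyNoetherian P] [LocallyOfFiniteType p] {δP : P → ℤ} {δ : X → ℤ}
  (hd : Cyc.IsDimFun P δP) (hdX : Cyc.IsDimFun X δ) (hδ : Cyc.DeltaCompat p δP δ)

/-- The caps with the chosen coordinate sections. -/
abbrev cycle (α : AlgebraicCycle X ℤ) (i : ℕ) : AlgebraicCycle P ℤ := hP.atlas.cycle hd hδ α i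

open Classical in
theorem cycle_apply (hdX : Cyc.IsDimFun X δ) {α : AlgebraicCycle X ℤ} {k : ℤ} (hα : α ∈ Cyc.Zk X δ k) (i : ℕ)
    (hi : i ≤ n) :
    (∀ z, hP.cycle hd hδ α i z ≠ 0 → ∃ ξ, α ξ ≠ 0 ∧ ξ ⤳ p z) ∧
    ∀ z, k ≤ δ (p z) → hP.cycle hd hδ α i z = if (hP.coords (p z)).IsEta (p z) i z then α (p z) else 0 :=
  hP.atlas.cycle_apply hd hδ hdX hα i hi

include hdX in
theorem map_cycle [IsProper p] {α : AlgebraicCycle X ℤ} {k : ℤ} (hα : α ∈ Cyc.Zk X δ k) {s : ℕ} (hs : s ≤ n) :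
    AlgebraicCycle.map p δP δ (hP.cycle hd hδ α s) = if s = n then α else 0 := by
  classical
  ext x
  rw [CycLib.map_apply']
  obtain ⟨h1, h2⟩ := hP.cycle_apply hd hδ hdX hα s hs
  have hZ := capIter_mem_Zk hP.invertible hd (hP.pullCycle_mem_Zk hd hδ hα) hP.sec hP.sec_ne_zero s
  have hterm : ∀ z ∈ ⇑p ⁻¹' {x}, hP.cycle hd hδ α s z * (AlgebraicCycle.mapCoeff p δP δ z : ℤ) ≠ 0 →
      δ x = k + n - s ∧ k ≤ δ x ∧ (s = n → (hP.coords x).IsEta x n z) := by
    intro z (hz : p z = x) hne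
    have hδz : δP z = k + n - s := by_contra fun h => left_ne_zero_of_mul hne (hZ z h)
    have hco : δP z = δ x := by
      by_contra h
      exact right_ne_zero_of_mul hne (by
        have : AlgebraicCycle.mapCoeff p δP δ z = 0 := if_neg (fun e => h (hz ▸ e))
        rw [this]; rfl)
    have hk : k ≤ δ x := by omega
    refine ⟨by omega, hk, fun hsn => ?_⟩
    have h3 := left_ne_zero_of_mul hne
    rw [h2 z (hz ▸ hk), hz] at h3
    exact hsn ▸ (by by_contra hn; exact h3 (if_neg hn) : (hP.coords x).IsEta x s z)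
  by_cases hsn : s = n
  · subst hsn
    rw [if_pos rfl]
    by_cases hx : δ x = k
    · obtain ⟨η, hη⟩ := (hP.coords x).exists_isEta (hP.mem_nhd x) le_rfl
      rw [finsum_mem_def, finsum_eq_single _ η fun z hz => by
        by_contra hne
        have hm : z ∈ ⇑p ⁻¹' {x} := Set.mem_of_indicator_ne_zero hne
        rw [Set.indicator_of_mem hm] at hne
        exact hz (((hterm z hm hne).2.2 rfl).unique _ (hP.mem_nhd x) hη),
        Set.indicator_of_mem (show η ∈ ⇑p ⁻¹' {x} from hη.apply_eq), h2 η (by rw [hη.apply_eq, hx]),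
        hη.apply_eq, if_pos hη]
      have hcoef : AlgebraicCycle.mapCoeff p δP δ η = 1 := by
        rw [AlgebraicCycle.mapCoeff, if_pos, hη.residueDegree_eq_one _ (hP.mem_nhd x)]
        have := hη.delta_eq _ (hP.mem_nhd x) hd hδ le_rfl
        simp only [Nat.sub_self, Nat.cast_zero, add_zero] at this
        rw [this]
        exact congrArg δ hη.apply_eq.symm
      rw [hcoef, Nat.cast_one, mul_one]
    · rw [hα x hx]
      exact finsum_mem_eq_zero_of_forall_eq_zero fun z hz => by_contra fun hne =>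
        hx ((hterm z hz hne).1.trans (by ring))
  · rw [if_neg hsn, Function.locallyFinsuppWithin.coe_zero, Pi.zero_apply]
    refine finsum_mem_eq_zero_of_forall_eq_zero fun z hz => by_contra fun hne => ?_
    obtain ⟨h3, -, -⟩ := hterm z hz hne
    obtain ⟨ξ, hξ, hsp⟩ := h1 z (left_ne_zero_of_mul hne)
    have hδξ : δ ξ = k := by_contra fun h => hξ (hα ξ h)
    rw [show p z = x from hz] at hsp
    have := CycLib.delta_le hdX hsp
    omega

include hP hd hdX hδ in
/-- `π_*(c_1(O(1))^s ∩ π^*α)` is `0` below the relative dimension and `α` in it. -/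
theorem ratEquiv_map_cap [IsProper p] (hPs : Cyc.IsSetup P δP) (hX : Cyc.IsSetup X δ) {α : AlgebraicCycle X ℤ}
    {k : ℤ} (hα : α ∈ Cyc.Zk X δ k) (t : ℕ → (ξ : P) → Cyc.secFibre O1 ξ) (ht : ∀ i ξ, t i ξ ≠ 0)
    {γ : ℕ → P → ℤ} (hγ0 : γ 0 = Cyc.pullFun p δP δ n ⇑α)
    (hγs : ∀ i, γ (i + 1) = Cyc.c1CapFun δP O1 (γ i) (t i)) {s : ℕ} (hs : s ≤ n) {β : AlgebraicCycle P ℤ}
    (hβ : ⇑β = γ s) :
    Cyc.RatEquiv δ (k + n - s) (AlgebraicCycle.map p δP δ β) (if s = n then α else 0) := by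
  rw [← hP.map_cycle hd hdX hδ hα hs]
  refine CycLib.ratEquiv_map p hPs hX hδ ?_
  have e : β = capIter hP.invertible hd (hP.pullCycle hd hδ α) t ht s := by
    ext z
    rw [hβ, eq_capIter hP.invertible hd (hP.pullCycle hd hδ α) t ht hγ0 hγs s]
  rw [e]
  refine ratEquiv_capIter hP.invertible hd (hP.pullCycle_mem_Zk hd hδ hα) ?_ t hP.sec ht hP.sec_ne_zero s
  exact RatOn.ratEquiv (T := Set.univ) (RatOn.congr (RatOn.zero _) fun x => sub_self _)

end HasCoords

end Groth.Agent.H23.ProjBd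

end
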