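import Groth.Agent.H23.ProjBd.CoordAlg
import Mathlib.RingTheory.MvPolynomial.Localization
import Mathlib.RingTheory.SurjectiveOnStalks
import Mathlib.RingTheory.Spectrum.Prime.Topology
import Mathlib.RingTheory.Localization.FractionRing

/-! The affine space over the fraction field of `A/𝔭` cut out by `X_l = 0` (`l < i`) in `Spec A[X]`. -/

set_option autoImplicit false

universe u

open MvPolynomial

noncomputable section

namespace Groth.Agent.H23.ProjBd.Stratum

attribute [local instance] MvPolynomial.algebraMvPolynomial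

variable {A : Type u} [CommRing A] (𝔭 : Ideal A) [𝔭.IsPrime] {n i : ℕ}

/-- The first `i` variables. -/
def low (n i : ℕ) : Set (Fin n) := {l | (l : ℕ) < i}

/-- Dropping the first `i` variables. -/
def σ (A : Type u) [CommRing A] (n i : ℕ) : MvPolynomial (Fin n) A →ₐ[A] MvPolynomial (Fin (n - i)) A :=
  aeval fun l => if h : i ≤ (l : ℕ) then MvPolynomial.X ⟨l - i, by omega⟩ else 0

/-- Putting the variables back. -/
def τ (A : Type u) [CommRing A] (n i : ℕ) : MvPolynomial (Fin (n - i)) A →ₐ[A] MvPolynomial (Fin n) A :=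
  rename fun a => ⟨a + i, by omega⟩

theorem σ_τ (f : MvPolynomial (Fin (n - i)) A) : σ A n i (τ A n i f) = f := by
  have h : (σ A n i).comp (τ A n i) = AlgHom.id A _ := MvPolynomial.algHom_ext fun a => by
    rw [AlgHom.comp_apply, τ, rename_X, σ, aeval_X, dif_pos (Nat.le_add_left _ _), AlgHom.id_apply]
    exact congrArg MvPolynomial.X (Fin.ext (Nat.add_sub_cancel (a : ℕ) i))
  exact DFunLike.congr_fun h f

theorem τ_σ (f : MvPolynomial (Fin n) A) : τ A n i (σ A n i f) = kill (low n i) f := by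
  classical
  have h : (τ A n i).comp (σ A n i) = kill (low n i) := MvPolynomial.algHom_ext fun l => by
    rw [AlgHom.comp_apply, σ, aeval_X, kill, aeval_X]
    by_cases h : i ≤ (l : ℕ)
    · rw [dif_pos h, if_neg (show l ∉ low n i from fun h' => absurd (show (l : ℕ) < i from h') (by omega)), τ, rename_X]
      exact congrArg MvPolynomial.X (Fin.ext (Nat.sub_add_cancel h))
    · rw [dif_neg h, map_zero, if_pos (show l ∈ low n i from by show (l : ℕ) < i; omega)]
  exact DFunLike.congr_fun h f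

/-- The quotient part. -/
def ρ₁ : MvPolynomial (Fin n) A →+* MvPolynomial (Fin (n - i)) (A ⧸ 𝔭) :=
  (MvPolynomial.map (Ideal.Quotient.mk 𝔭)).comp (σ A n i).toRingHom

theorem ρ₁_surjective : Function.Surjective (ρ₁ 𝔭 (n := n) (i := i)) := fun f => by
  obtain ⟨g, rfl⟩ := MvPolynomial.map_surjective _ Ideal.Quotient.mk_surjective f
  exact ⟨τ A n i g, congrArg (MvPolynomial.map (Ideal.Quotient.mk 𝔭)) (σ_τ g)⟩

theorem ker_ρ₁ : RingHom.ker (ρ₁ 𝔭 (n := n) (i := i)) = J 𝔭 (low n i) := by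
  ext f
  show MvPolynomial.map (Ideal.Quotient.mk 𝔭) (σ A n i f) = 0 ↔ kill (low n i) f ∈ 𝔭.map C
  rw [← RingHom.mem_ker, MvPolynomial.ker_map, Ideal.mk_ker, ← τ_σ]
  refine ⟨fun h => ?_, fun h => ?_⟩
  · have := Ideal.mem_map_of_mem (τ A n i).toRingHom h
    rw [Ideal.map_map] at this
    rw [show (τ A n i).toRingHom.comp C = (C : A →+* MvPolynomial (Fin n) A) from
      RingHom.ext fun a => (τ A n i).commutes a] at this
    exact this
  · have := Ideal.mem_map_of_mem (σ A n i).toRingHom h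
    rw [Ideal.map_map] at this
    rw [show (σ A n i).toRingHom.comp C = (C : A →+* MvPolynomial (Fin (n - i)) A) from
      RingHom.ext fun a => (σ A n i).commutes a] at this
    have h2 : (σ A n i).toRingHom (τ A n i (σ A n i f)) = σ A n i f := σ_τ _
    rwa [h2] at this

/-- The map to polynomials over the fraction field. -/
def ρ : MvPolynomial (Fin n) A →+* MvPolynomial (Fin (n - i)) (FractionRing (A ⧸ 𝔭)) :=
  (algebraMap (MvPolynomial (Fin (n - i)) (A ⧸ 𝔭)) _).comp (ρ₁ 𝔭)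

theorem surjectiveOnStalks : (ρ 𝔭 (n := n) (i := i)).SurjectiveOnStalks :=
  (RingHom.surjectiveOnStalks_of_isLocalization
    (M := (nonZeroDivisors (A ⧸ 𝔭)).map (C (σ := Fin (n - i)))) _).comp
    (RingHom.surjectiveOnStalks_of_surjective (ρ₁_surjective 𝔭))

theorem isEmbedding_comap : Topology.IsEmbedding (PrimeSpectrum.comap (ρ 𝔭 (n := n) (i := i))) :=
  ((PrimeSpectrum.isClosedEmbedding_comap_of_surjective _ _ (ρ₁_surjective 𝔭)).isEmbedding).comp
    (PrimeSpectrum.localization_comap_isEmbedding (MvPolynomial (Fin (n - i)) (FractionRing (A ⧸ 𝔭)))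
      ((nonZeroDivisors (A ⧸ 𝔭)).map (C (σ := Fin (n - i)))))

theorem ker_ρ : RingHom.ker (ρ 𝔭 (n := n) (i := i)) = J 𝔭 (low n i) := by
  rw [ρ, RingHom.ker_comp_of_injective _ ?_, ker_ρ₁]
  exact IsLocalization.injective _ (M := (nonZeroDivisors (A ⧸ 𝔭)).map (C (σ := Fin (n - i)))) (by
    rintro _ ⟨a, ha, rfl⟩
    refine mem_nonZeroDivisors_of_ne_zero ?_
    rw [ne_eq, C_eq_zero]
    exact nonZeroDivisors.ne_zero ha)

theorem range_comap (Q : PrimeSpectrum (MvPolynomial (Fin n) A)) :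
    Q ∈ Set.range (PrimeSpectrum.comap (ρ 𝔭 (i := i))) ↔
      Q.asIdeal.comap C = 𝔭 ∧ ∀ l ∈ low n i, MvPolynomial.X l ∈ Q.asIdeal := by
  constructor
  · rintro ⟨q, rfl⟩
    refine ⟨le_antisymm (fun a ha => ?_) (fun a ha => ?_), fun l hl => ?_⟩
    · by_contra hn
      have hu : IsUnit (ρ 𝔭 (n := n) (i := i) (C a)) := by
        show IsUnit (algebraMap _ (MvPolynomial (Fin (n - i)) (FractionRing (A ⧸ 𝔭)))
          (MvPolynomial.map (Ideal.Quotient.mk 𝔭) (σ A n i (C a))))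
        rw [σ, aeval_C, MvPolynomial.algebraMap_eq, MvPolynomial.map_C]
        exact IsLocalization.map_units (M := (nonZeroDivisors (A ⧸ 𝔭)).map (C (σ := Fin (n - i)))) _
          ⟨_, _, mem_nonZeroDivisors_of_ne_zero (fun h => hn (Ideal.Quotient.eq_zero_iff_mem.1 h)), rfl⟩
      exact q.isPrime.ne_top (Ideal.eq_top_of_isUnit_mem _ ha hu)
    · show ρ 𝔭 (n := n) (i := i) (C a) ∈ q.asIdeal
      rw [(RingHom.mem_ker (f := ρ 𝔭 (n := n) (i := i))).1 (ker_ρ 𝔭 ▸ C_mem_J ha)]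
      exact zero_mem _
    · show ρ 𝔭 (n := n) (i := i) (MvPolynomial.X l) ∈ q.asIdeal
      rw [(RingHom.mem_ker (f := ρ 𝔭 (n := n) (i := i))).1 (ker_ρ 𝔭 ▸ X_mem_J hl)]
      exact zero_mem _
  · rintro ⟨hC, hX⟩
    have hJ : RingHom.ker (ρ₁ 𝔭 (n := n) (i := i)) ≤ Q.asIdeal :=
      ker_ρ₁ 𝔭 ▸ J_le (fun a ha => by rw [← hC] at ha; exact ha) hX
    obtain ⟨q, hq⟩ : Q ∈ Set.range (PrimeSpectrum.comap (ρ₁ 𝔭 (n := n) (i := i))) := by
      rw [range_comap_of_surjective _ _ (ρ₁_surjective 𝔭)]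
      exact hJ
    obtain ⟨r, hr⟩ : q ∈ Set.range (PrimeSpectrum.comap
        (algebraMap (MvPolynomial (Fin (n - i)) (A ⧸ 𝔭)) (MvPolynomial (Fin (n - i)) (FractionRing (A ⧸ 𝔭))))) := by
      rw [PrimeSpectrum.localization_comap_range _ ((nonZeroDivisors (A ⧸ 𝔭)).map (C (σ := Fin (n - i))))]
      refine Set.disjoint_left.2 ?_
      rintro _ ⟨b, hb, rfl⟩ hbq
      obtain ⟨a, rfl⟩ := Ideal.Quotient.mk_surjective b
      refine nonZeroDivisors.ne_zero hb (Ideal.Quotient.eq_zero_iff_mem.2 ?_)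
      rw [← hC, ← hq]
      show ρ₁ 𝔭 (n := n) (i := i) (C a) ∈ q.asIdeal
      show MvPolynomial.map (Ideal.Quotient.mk 𝔭) (σ A n i (C a)) ∈ q.asIdeal
      rw [σ, aeval_C, MvPolynomial.algebraMap_eq, MvPolynomial.map_C]
      exact hbq
    exact ⟨r, (congrArg (PrimeSpectrum.comap (ρ₁ 𝔭 (n := n) (i := i))) hr).trans hq⟩

end Groth.Agent.H23.ProjBd.Stratum

end
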