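import Groth.Agent.H23.ProjBd.Eta
import Groth.Agent.H23.ProjBd.StratumAlg
import Groth.Agent.H23.StratCycles

/-!
A cycle point in an affine stratum of a fibre of a projective bundle moves to smaller strata.
-/

set_option autoImplicit false
set_option backward.isDefEq.respectTransparency false
set_option backward.isDefEq.respectTransparency.types false

universe u

open CategoryTheory AlgebraicGeometry TopologicalSpace Opposite

noncomputable section

namespace Groth.Agent.H23.ProjBd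

open Groth.Agent Groth.Agent.H23.RatOn Homotopy

theorem isDimFun_of_convex {W X : Scheme.{u}} (j : W ⟶ X) [IsPreimmersion j] {δ : X → ℤ}
    (hd : Cyc.IsDimFun X δ) (hconv : ∀ a b z, j a ⤳ z → z ⤳ j b → z ∈ Set.range j) :
    Cyc.IsDimFun W (fun w => δ (j w)) := by
  intro a b hab hne
  have hinj := j.isEmbedding.injective
  refine ⟨CycLib.delta_lt hd (hab.map j.continuous) (hinj.ne hne), fun h => ?_⟩
  refine (hd _ _ (hab.map j.continuous) (hinj.ne hne)).2 fun z h1 h2 => ?_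
  obtain ⟨z, rfl⟩ := hconv a b z h1 h2
  rcases h z (j.isEmbedding.isInducing.specializes_iff.1 h1) (j.isEmbedding.isInducing.specializes_iff.1 h2) with rfl | rfl
  exacts [Or.inl rfl, Or.inr rfl]

/-- A sum of principal divisors has locally finite support. -/
theorem locFin_zeroOn {X : Scheme.{u}} [IsLocallyNoetherian X] {δ : X → ℤ} (hd : Cyc.IsDimFun X δ) {k : ℤ}
    {T : Set X} {G : X → ℤ} (h : ZeroOn δ k T G) (x : X) :
    ∃ U ∈ nhds x, (U ∩ Function.support G).Finite := by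
  obtain ⟨ι, ξ, f, -, h2, -, h4, h5⟩ := h
  obtain ⟨U, hUo, hxU, hfin⟩ := h4 x
  obtain ⟨V, hV, hxV, hVU⟩ := exists_isAffineOpen_mem_and_subset (x := x) (U := ⟨U, hUo⟩) hxU
  refine ⟨V, V.2.mem_nhds hxV, (hfin.biUnion fun i _ => CycLib.finite_divFun_support hd hV (h2 i)).subset ?_⟩
  rintro y ⟨hyV, hy⟩
  obtain ⟨i, hi⟩ : ∃ i, Cyc.divFun δ (ξ i) (f i) y ≠ 0 := by
    by_contra hn
    push Not at hn
    exact hy (by rw [h5, finsum_eq_zero_of_forall_eq_zero hn])
  exact Set.mem_biUnion (x := i) ⟨y, CycLib.mem_closure_of_divFun_ne_zero hi, hVU hyV⟩ ⟨hyV, hi⟩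

/-- A sum of principal divisors of closures in `T` lives over the closure of `T`. -/
theorem exists_gen_of_zeroOn {X : Scheme.{u}} {δ : X → ℤ} {k : ℤ} {T : Set X} {G : X → ℤ} (h : ZeroOn δ k T G)
    {x : X} (hx : G x ≠ 0) : δ x = k ∧ ∃ ζ ∈ T, ζ ⤳ x := by
  obtain ⟨ι, ξ, f, h1, -, h3, -, h5⟩ := h
  obtain ⟨i, hi⟩ : ∃ i, Cyc.divFun δ (ξ i) (f i) x ≠ 0 := by
    by_contra hn
    push Not at hn
    exact hx (by rw [h5, finsum_eq_zero_of_forall_eq_zero hn])
  have hd : ξ i ⤳ x ∧ δ x + 1 = δ (ξ i) := by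
    by_contra hc
    exact hi (dif_neg hc)
  exact ⟨by have := h1 i; omega, ξ i, h3 i, hd.1⟩

namespace Coords

variable {X P : Scheme.{u}} {p : P ⟶ X} {O1 : P.Modules} {n : ℕ} {U : X.Opens} (c : Coords p O1 n U)
  {ξ : X} (hξ : ξ ∈ U)

theorem vanish_succ {i : ℕ} (hi : i < n + 1) {x : P} (hx : p x ∈ U) (hv : c.Vanish i x)
    (hnW : x ∉ c.W ⟨i, hi⟩) : c.Vanish (i + 1) x := by
  intro hx' l hl
  rcases Nat.lt_succ_iff_lt_or_eq.1 hl with h | h
  · exact hv hx' l h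
  · obtain rfl : l = ⟨i, hi⟩ := Fin.ext h
    exact not_not.1 fun hne => hnW ((c.mem_W_iff _ x hx').2 hne)

theorem Sset_self {i : ℕ} (hi : i < n + 1) : Sset (⟨i, hi⟩ : Fin (n + 1)) i = Stratum.low n i := by
  ext l
  show ((⟨i, hi⟩ : Fin (n + 1)).succAbove l : ℕ) < i ↔ (l : ℕ) < i
  rcases lt_or_ge (l : ℕ) i with h | h
  · rw [Fin.succAbove_of_castSucc_lt _ _ (show l.castSucc < ⟨i, hi⟩ from h)]
    simp [h]
  · rw [Fin.succAbove_of_le_castSucc _ _ (show ⟨i, hi⟩ ≤ l.castSucc from h)]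
    simp only [Fin.val_succ]
    omega

variable [IsLocallyNoetherian P] {δP : P → ℤ}

include hξ in
theorem stratum_step (hd : Cyc.IsDimFun P δP) {i : ℕ} (hi : i < n + 1) {z η : P} (hz : z ∈ c.W ⟨i, hi⟩)
    (hzξ : p z = ξ) (hv : c.Vanish i z) (hη : c.IsEta ξ i η) (hne : z ≠ η) :
    ∃ G : P → ℤ, ZeroOn δP (δP z) (p ⁻¹' closure {ξ} ∩ {x | p x ∈ U ∧ c.Vanish i x}) G ∧
      ∀ x, p x = ξ → single z x - G x ≠ 0 → c.Vanish (i + 1) x := by
  classical
  let j0 : Fin (n + 1) := ⟨i, hi⟩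
  let 𝔭 := c.pU hξ
  let m := n - i
  let K := FractionRing (Γ(X, U) ⧸ 𝔭)
  let e := RingEquiv.ofBijective (c.ψ j0) (c.bij j0)
  let φ : Γ(P, c.W j0) →+* MvPolynomial (Fin m) K := (Stratum.ρ 𝔭).comp e.symm.toRingHom
  let W := Spec (CommRingCat.of (MvPolynomial (Fin m) K))
  let j : W ⟶ P := Spec.map (CommRingCat.ofHom φ) ≫ (c.affine j0).fromSpec
  haveI : IsPreimmersion (Spec.map (CommRingCat.ofHom φ)) := by
    refine IsPreimmersion.mk_SpecMap ?_ ?_
    · have h1 : Topology.IsEmbedding (PrimeSpectrum.comap e.symm.toRingHom) :=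
        (PrimeSpectrum.isClosedEmbedding_comap_of_surjective _ _ e.symm.surjective).isEmbedding
      exact h1.comp (Stratum.isEmbedding_comap 𝔭)
    · exact (Stratum.surjectiveOnStalks 𝔭).comp (RingHom.surjectiveOnStalks_of_surjective e.symm.surjective)
  haveI : IsPreimmersion j := inferInstance
  have hjW : ∀ w, j w ∈ c.W j0 := fun w => by
    have : j w ∈ Set.range (c.affine j0).fromSpec := ⟨Spec.map (CommRingCat.ofHom φ) w, rfl⟩
    rwa [(c.affine j0).range_fromSpec] at this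
  have hpr : ∀ w : W, c.pr j0 (j w) (hjW w) = Ideal.comap (Stratum.ρ 𝔭) w.asIdeal := fun w => by
    rw [c.pr_eq_comap]
    have h1 : (c.affine j0).primeIdealOf ⟨j w, hjW w⟩ = Spec.map (CommRingCat.ofHom φ) w :=
      (c.affine j0).fromSpec.isOpenEmbedding.injective ((c.affine j0).fromSpec_primeIdealOf ⟨j w, hjW w⟩)
    rw [h1]
    ext f
    show Stratum.ρ 𝔭 (e.symm (e f)) ∈ w.asIdeal ↔ _
    rw [RingEquiv.symm_apply_apply]
    rfl
  have hlow : Sset j0 i = Stratum.low n i := Sset_self (n := n) hi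
  have hij : i ≤ (j0 : ℕ) := le_rfl
  have hrange : ∀ x, x ∈ Set.range j ↔ (x ∈ c.W j0 ∧ p x = ξ ∧ c.Vanish i x) := by
    intro x
    constructor
    · rintro ⟨w, rfl⟩
      have h := (Stratum.range_comap 𝔭 (i := i) (⟨c.pr j0 (j w) (hjW w), inferInstance⟩ : PrimeSpectrum _)).1
        ⟨w, PrimeSpectrum.ext (hpr w).symm⟩
      refine ⟨hjW w, (c.apply_eq_iff j0 (hjW w) hξ).2 h.1, c.vanish_of_J_le hξ hij (hjW w) ?_⟩
      rw [hlow]
      exact J_le (fun a ha => (SetLike.ext_iff.1 h.1 a).2 ha) h.2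
    · rintro ⟨hx, hpx, hvx⟩
      obtain ⟨w, hw⟩ := (Stratum.range_comap 𝔭 (i := i) (⟨c.pr j0 x hx, inferInstance⟩ : PrimeSpectrum _)).2
        ⟨(c.apply_eq_iff j0 hx hξ).1 hpx, fun l hl =>
          c.J_le_pr hξ hx (specializes_of_eq hpx.symm) hvx (X_mem_J (hlow ▸ hl))⟩
      exact ⟨w, c.eq_of_pr_eq j0 (hjW w) hx ((hpr w).trans (congrArg PrimeSpectrum.asIdeal hw))⟩
  let bot : W := (⟨⊥, Ideal.isPrime_bot⟩ : PrimeSpectrum (MvPolynomial (Fin m) K))
  have hbot : j bot = η := by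
    refine (c.isEta_of_pr_eq hξ hij (hjW bot) ?_).unique c hξ hη
    rw [hpr, hlow, ← Stratum.ker_ρ 𝔭]
    rfl
  obtain ⟨w, hw⟩ := (hrange z).2 ⟨hz, hzξ, hv⟩
  have hconv : ∀ a b x, j a ⤳ x → x ⤳ j b → x ∈ Set.range j := by
    intro a b x h1 h2
    obtain ⟨-, hpa, hva⟩ := (hrange _).1 ⟨a, rfl⟩
    obtain ⟨hbW, hpb, -⟩ := (hrange _).1 ⟨b, rfl⟩
    have hxW := h2.mem_open (c.W j0).2 hbW
    have hpx : p x = ξ := ((hpa ▸ h1.map p.continuous : ξ ⤳ p x).antisymm (hpb ▸ h2.map p.continuous)).eq.symm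
    refine (hrange x).2 ⟨hxW, hpx, ?_⟩
    refine c.vanish_of_J_le hξ hij hxW (le_trans ?_ ((c.specializes_iff j0 (hjW a) hxW).1 h1))
    exact c.J_le_pr hξ (hjW a) (specializes_of_eq hpa.symm) hva
  -- move the point inside the affine space
  let cW := Spec.map (CommRingCat.ofHom (algebraMap K (MvPolynomial (Fin m) K)))
  obtain ⟨φ₀, hφ₀⟩ := StratCycles.exists_polyIso K m
  let δW : W → ℤ := fun v => (FibDim.rd cW v : ℤ)
  haveI : IsLocallyNoetherian W := LocallyOfFiniteType.isLocallyNoetherian cW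
  have hdW : Cyc.IsDimFun W δW :=
    CycLib.isDimFun_of_deltaCompat cW (CycLib.isSetup_spec_field K) (CycLib.deltaCompat_rd cW)
  have hdj := isDimFun_of_convex j hd hconv
  have hbotsp : ∀ v : W, bot ⤳ v := fun v => (PrimeSpectrum.le_iff_specializes _ v).1 (show (⊥ : Ideal _) ≤ _ from bot_le)
  have hconst : ∀ v, δW v = δP (j v) + (δW bot - δP (j bot)) := fun v => by
    have h1 := CycLib.cd_eq hdW (hbotsp v)
    have h2 := CycLib.cd_eq hdj (hbotsp v)
    omega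
  let a : AlgebraicCycle W ℤ :=
    { toFun := single w
      supportWithinDomain' := fun _ _ => trivial
      supportLocallyFiniteWithinDomain' := fun y _ => ⟨Set.univ, Filter.univ_mem,
        (Set.finite_singleton w).subset fun y hy => by_contra fun h => hy.2 (if_neg h)⟩ }
  have hk : δW w ≠ (m : ℤ) := by
    have hwne : bot ≠ w := fun h => hne (by rw [← hw, ← h, hbot])
    have h1 := CycLib.delta_lt hdW (hbotsp w) hwne
    obtain ⟨q, hq⟩ := φ₀.hom.homeomorph.surjective bot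
    have h2 : δW (φ₀.hom q) ≤ m := by
      show (FibDim.rd cW (φ₀.hom q) : ℤ) ≤ m
      rw [← rd_iso_comp φ₀ cW q, hφ₀]
      exact_mod_cast FibDim.rd_affineSpace_le m q
    rw [show φ₀.hom q = bot from hq] at h2
    omega
  obtain ⟨ι, ζ, f, h1, h2, h3, h4⟩ := AffineVanish.ratEquivZero m cW φ₀ hφ₀ (CycLib.deltaCompat_rd cW) hk a
    (fun x hx => if_neg fun h => hx (by rw [h]))
  haveI : Finite ι := by
    choose V hVo hxV hVf using h3
    obtain ⟨s, hs⟩ := (isCompact_univ (X := W)).elim_finite_subcover V hVo fun x _ => Set.mem_iUnion.2 ⟨x, hxV x⟩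
    rw [← Set.finite_univ_iff]
    refine (s.finite_toSet.biUnion fun x _ => hVf x).subset fun i _ => ?_
    obtain ⟨x, hx, hiV⟩ := Set.mem_iUnion₂.1 (hs (Set.mem_univ (ζ i)))
    exact Set.mem_biUnion hx ⟨ζ i, subset_closure rfl, hiV⟩
  haveI : Fintype ι := Fintype.ofFinite ι
  choose g hg using fun t => (CycLib.residueFieldMap_bijective j (ζ t)).2 (f t)
  have hg0 : ∀ t, g t ≠ 0 := fun t h0 => h2 t (by rw [← hg t, h0, map_zero])
  have hdiv : ∀ t (v : W), Cyc.divFun δP (j (ζ t)) (g t) (j v) = Cyc.divFun δW (ζ t) (f t) v := fun t v => by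
    rw [← hg t, CycLib.divFun_preimmersion j (δW bot - δP (j bot)) hconst]
  refine ⟨fun x => ∑ᶠ t, Cyc.divFun δP (j (ζ t)) (g t) x, ⟨ι, fun t => j (ζ t), g, fun t => ?_, hg0, fun t => ?_,
    fun x => ⟨Set.univ, isOpen_univ, trivial, Set.toFinite _⟩, fun x => rfl⟩, fun x hpx hx => ?_⟩
  · have e1 := hconst (ζ t)
    have e2 := hconst w
    rw [hw] at e2
    have e3 : δW (ζ t) = δW w + 1 := h1 t
    show δP (j (ζ t)) = δP z + 1
    omega
  · obtain ⟨h, hp, hv'⟩ := (hrange (j (ζ t))).1 ⟨ζ t, rfl⟩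
    exact ⟨subset_closure hp, show p (j (ζ t)) ∈ U from hp ▸ hξ, hv'⟩
  have hxne : x ∉ Set.range j := by
    rintro ⟨v, rfl⟩
    refine hx (sub_eq_zero.2 ?_)
    show single z (j v) = ∑ᶠ t, Cyc.divFun δP (j (ζ t)) (g t) (j v)
    rw [finsum_congr fun t => hdiv t v, ← h4 v]
    show single z (j v) = single w v
    simp only [single, ← hw, j.isEmbedding.injective.eq_iff]
  have hηx : η ⤳ x := by
    by_contra hn
    refine hx ?_
    show single z x - ∑ᶠ t, Cyc.divFun δP (j (ζ t)) (g t) x = 0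
    rw [finsum_eq_zero_of_forall_eq_zero fun t => CycLib.divFun_eq_zero_of_not_specializes δP _ fun h =>
      hn ((hbot ▸ (hbotsp (ζ t)).map j.continuous : η ⤳ j (ζ t)).trans h), single,
      if_neg fun h => hxne ⟨w, hw.trans h.symm⟩, sub_zero]
  have hxU : p x ∈ U := hpx ▸ hξ
  have hvx : c.Vanish i x := by
    obtain ⟨jx, hjx⟩ := c.cover x hxU
    have hηj := hηx.mem_open (c.W jx).2 hjx
    have hle := c.le_of_vanish hηj hη.vanish
    obtain ⟨hηj', eη⟩ := hη.mem_W c hle hξ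
    exact c.vanish_of_J_le hξ hle hjx (eη ▸ (c.specializes_iff jx hηj' hjx).1 hηx)
  exact c.vanish_succ hi hxU hvx fun hxW => hxne ((hrange x).2 ⟨hxW, hpx, hvx⟩)

end Coords

end Groth.Agent.H23.ProjBd

end
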